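import Groth.Agent.DComplete.Exists
import Groth.Agent.DComplete.TensorFinite
import Groth.Agent.KFlat.Tensor
import Groth.Agent.LocCohLib.HomCx
import Groth.Agent.TriH.KInjExist
import Groth.Agent.TriH.DerivedKInj
import Groth.Prelude.Def_DRing4
import Mathlib.Algebra.Homology.DerivedCategory.Linear

/-!
# The derived Hom out of a complex, computed by K-injective complexes
-/

set_option autoImplicit false
set_option linter.style.haveILetI false

open CategoryTheory CategoryTheory.Limits CategoryTheory.Pretriangulated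

namespace Groth.Agent.RHomCx

section General

universe v v' v'' w w' w''

variable {C : Type w} [Category.{v} C] {D : Type w'} [Category.{v'} D] {H : Type w''}
  [Category.{v''} H] (L : C ⥤ D) (W : MorphismProperty C) [L.IsLocalization W] (F : C ⥤ H)

/-- Objects computing the right derived functor of `F`. -/
structure Good (I : C) : Prop where
  lift : ∀ (X : C) (g : L.obj X ⟶ L.obj I), ∃ m : X ⟶ I, L.map m = g
  eq : ∀ (X : C) (a b : X ⟶ I), L.map a = L.map b → F.map a = F.map b

variable {L W F}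

/-- The colimit cocone at a good object. -/
noncomputable def cocone {Y I : C} (hI : Good L F I) (φ : L.obj I ⟶ L.obj Y) [IsIso φ] :
    Cocone (CostructuredArrow.proj L (L.obj Y) ⋙ F) where
  pt := F.obj I
  ι :=
    { app := fun g => F.map (hI.lift g.left (g.hom ≫ inv φ)).choose
      naturality := fun g g' u => by
        show F.map u.left ≫ F.map _ = F.map _ ≫ 𝟙 _
        rw [Category.comp_id, ← F.map_comp]
        refine hI.eq _ _ _ ?_
        rw [L.map_comp, (hI.lift g'.left (g'.hom ≫ inv φ)).choose_spec,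
          (hI.lift g.left (g.hom ≫ inv φ)).choose_spec, ← Category.assoc, CostructuredArrow.w u] }

theorem cocone_app_self {Y I : C} (hI : Good L F I) (φ : L.obj I ⟶ L.obj Y) [IsIso φ] :
    (cocone hI φ).ι.app (CostructuredArrow.mk φ) = 𝟙 (F.obj I) := by
  show F.map (hI.lift I (φ ≫ inv φ)).choose = _
  rw [← F.map_id]
  exact hI.eq _ _ _ ((hI.lift I (φ ≫ inv φ)).choose_spec.trans
    ((IsIso.hom_inv_id φ).trans (L.map_id I).symm))

/-- It is a colimit. -/
noncomputable def isColimitCocone {Y I : C} (hI : Good L F I) (φ : L.obj I ⟶ L.obj Y) [IsIso φ] :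
    IsColimit (cocone hI φ) where
  desc s := s.ι.app (CostructuredArrow.mk φ)
  fac s g := by
    let u : g ⟶ CostructuredArrow.mk φ :=
      CostructuredArrow.homMk (hI.lift g.left (g.hom ≫ inv φ)).choose (by
        show L.map _ ≫ φ = g.hom
        rw [(hI.lift g.left (g.hom ≫ inv φ)).choose_spec, Category.assoc, IsIso.inv_hom_id,
          Category.comp_id])
    exact s.w u
  uniq s m hm := by
    have h := hm (CostructuredArrow.mk φ)
    rw [cocone_app_self] at h
    exact (Category.id_comp m).symm.trans h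

theorem hasPointwise_of_good (hres : ∀ Y : C, ∃ (I : C) (s : Y ⟶ I), W s ∧ Good L F I) :
    F.HasPointwiseRightDerivedFunctor W := by
  intro Y
  obtain ⟨I, s, hs, hI⟩ := hres Y
  rw [F.hasPointwiseRightDerivedFunctorAt_iff L W]
  haveI : IsIso (L.map s) := Localization.inverts L W s hs
  exact ⟨⟨⟨_, isColimitCocone hI (inv (L.map s))⟩⟩⟩

theorem isIso_unit_of_good [F.HasPointwiseRightDerivedFunctor W] (RF : D ⥤ H)
    (α : F ⟶ L ⋙ RF) [RF.IsRightDerivedFunctor α W] {I : C} (hI : Good L F I) :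
    IsIso (α.app I) := by
  have h := RF.isPointwiseLeftKanExtensionOfHasPointwiseRightDerivedFunctor α W (L.obj I)
  let e := h.coconePointUniqueUpToIso (isColimitCocone hI (𝟙 (L.obj I)))
  have h1 : (α.app I ≫ RF.map (𝟙 (L.obj I))) ≫ e.hom = 𝟙 (F.obj I) :=
    (h.comp_coconePointUniqueUpToIso_hom (isColimitCocone hI (𝟙 (L.obj I))) (CostructuredArrow.mk (𝟙 (L.obj I)))).trans
      (cocone_app_self hI _)
  replace h1 : α.app I ≫ e.hom = 𝟙 (F.obj I) :=
    (congrArg (· ≫ e.hom) ((Category.comp_id _).symm.trans (congrArg (α.app I ≫ ·) (RF.map_id _).symm))).trans h1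
  have h2 : α.app I = e.inv := (Iso.comp_hom_eq_id e).1 h1
  rw [h2]
  infer_instance

theorem isIso_map_of_good {I J : C} (hI : Good L F I) (hJ : Good L F J) (a : I ⟶ J)
    [IsIso (L.map a)] : IsIso (F.map a) := by
  obtain ⟨b, hb⟩ := hI.lift J (inv (L.map a))
  refine ⟨F.map b, ?_, ?_⟩
  · rw [← F.map_comp, ← F.map_id]
    exact hI.eq _ _ _ (by rw [L.map_comp, hb, IsIso.hom_inv_id, L.map_id])
  · rw [← F.map_comp, ← F.map_id]
    exact hJ.eq _ _ _ (by rw [L.map_comp, hb, IsIso.inv_hom_id, L.map_id])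

end General

universe u

attribute [local instance] HasDerivedCategory.standard

open CochainComplex CochainComplex.HomComplex DComplete

variable {A : Type u} [CommRing A] (K : DRing.Cx A)

instance : (DRing.homCxFunctor K).Additive where
  map_add {L L' a b} := by
    refine HomologicalComplex.hom_ext _ _ fun i => ModuleCat.hom_ext (LinearMap.ext fun (z : Cochain K L i) => ?_)
    exact (congrArg (z.comp · (add_zero i)) (Cochain.ofHom_add a b)).trans (Cochain.comp_add _ _ _ _)

theorem map_smul_id (L : DRing.Cx A) (f : A) : (DRing.homCxFunctor K).map (f • 𝟙 L) = f • 𝟙 ((DRing.homCxFunctor K).obj L) := by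
  refine HomologicalComplex.hom_ext _ _ fun i => ModuleCat.hom_ext (LinearMap.ext fun (z : Cochain K L i) => ?_)
  change z.comp (Cochain.ofHom (f • 𝟙 L)) (add_zero i) = f • z
  ext p q h
  simp

/-- Postcomposition with a homotopy. -/
noncomputable def homotopyComp {L L' : DRing.Cx A} {a b : L ⟶ L'} (h : Homotopy a b) (i j : ℤ)
    (hij : i + (-1) = j) : ((DRing.homCxFunctor K).obj L).X i ⟶ ((DRing.homCxFunctor K).obj L').X j :=
  ModuleCat.ofHom
    { toFun := fun z : Cochain K L i => z.comp (Cochain.ofHomotopy h) hij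
      map_add' := fun _ _ => Cochain.add_comp _ _ _ _
      map_smul' := fun _ _ => Cochain.smul_comp _ _ _ _ }

/-- `Hom(K, -)` respects homotopies. -/
noncomputable def mapHomotopy {L L' : DRing.Cx A} {a b : L ⟶ L'} (h : Homotopy a b) :
    Homotopy ((DRing.homCxFunctor K).map a) ((DRing.homCxFunctor K).map b) where
  hom i j := if hij : i + (-1) = j then homotopyComp K h i j hij else 0
  zero i j hij := dif_neg fun h' => hij (show j + 1 = i by lia)
  comm i := by
    have h1 : (i : ℤ) + (-1) = i - 1 := by lia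
    have h2 : (i + 1 : ℤ) + (-1) = i := by lia
    rw [dNext_eq _ (show (ComplexShape.up ℤ).Rel i (i + 1) from rfl),
      prevD_eq _ (show (ComplexShape.up ℤ).Rel (i - 1) i from by simp), dif_pos h1, dif_pos h2]
    refine ModuleCat.hom_ext (LinearMap.ext fun (z : Cochain K L i) => ?_)
    change z.comp (Cochain.ofHom a) (add_zero i) =
      (δ i (i + 1) z).comp (Cochain.ofHomotopy h) h2 + δ (i - 1) i (z.comp (Cochain.ofHomotopy h) h1) +
        z.comp (Cochain.ofHom b) (add_zero i)
    rw [δ_comp z (Cochain.ofHomotopy h) h1 (i + 1) 0 i (by lia) rfl (by lia), δ_ofHomotopy,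
      Cochain.comp_sub]
    simp only [Int.negOnePow_neg, Int.negOnePow_one, Units.neg_smul, one_smul]
    abel

theorem Q_map_eq {L L' : DRing.Cx A} {a b : L ⟶ L'} (h : Homotopy a b) :
    (DRing.homCxQ K).map a = (DRing.homCxQ K).map b :=
  (cancel_epi ((DerivedCategory.quotientCompQhIso (ModuleCat.{u} A)).hom.app _)).1 (by
    rw [Functor.comp_map, Functor.comp_map, ← DerivedCategory.quotientCompQhIso_hom_naturality,
      ← DerivedCategory.quotientCompQhIso_hom_naturality, HomotopyCategory.eq_of_homotopy _ _ (mapHomotopy K h)])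

theorem good (I : DRing.Cx A) [I.IsKInjective] :
    Good DerivedCategory.Q (DRing.homCxQ K) I := by
  let e := DerivedCategory.quotientCompQhIso (ModuleCat.{u} A)
  refine ⟨fun X g => ?_, fun X a b hab => ?_⟩
  · obtain ⟨u, hu⟩ := (TriH.Qh_bijective_of_isKInjective I _).2 (e.hom.app X ≫ g ≫ e.inv.app I)
    obtain ⟨m, rfl⟩ := (HomotopyCategory.quotient (ModuleCat.{u} A) (ComplexShape.up ℤ)).map_surjective u
    refine ⟨m, (cancel_epi (e.hom.app X)).1 ((DerivedCategory.quotientCompQhIso_hom_naturality m).symm.trans ?_)⟩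
    rw [hu]
    simp [e]
  · refine Q_map_eq K (HomotopyCategory.homotopyOfEq _ _ ((TriH.Qh_bijective_of_isKInjective I _).1 ?_))
    rw [← cancel_mono (e.hom.app I), DerivedCategory.quotientCompQhIso_hom_naturality,
      DerivedCategory.quotientCompQhIso_hom_naturality, hab]

theorem exists_res (X : DRing.Cx A) : ∃ (I : DRing.Cx A) (s : X ⟶ I), I.IsKInjective ∧ QuasiIso s := by
  obtain ⟨I, s, h1, h2, -⟩ := TriH.exists_kInjective_resolution X
  exact ⟨I, s, h1, h2⟩

theorem exists_rep (X : Dual.D A) : ∃ (I : DRing.Cx A), I.IsKInjective ∧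
    Nonempty (DerivedCategory.Q.obj I ≅ X) := by
  obtain ⟨I, s, hI, hs⟩ := exists_res ((DerivedCategory.Q (C := ModuleCat.{u} A)).objPreimage X)
  haveI : IsIso (DerivedCategory.Q.map s) := (DerivedCategory.isIso_Q_map_iff_quasiIso _ _).2 hs
  exact ⟨I, hI, ⟨(asIso (DerivedCategory.Q.map s)).symm ≪≫ DerivedCategory.Q.objObjPreimageIso X⟩⟩

instance hasPointwise : (DRing.homCxQ K).HasPointwiseRightDerivedFunctor
    (HomologicalComplex.quasiIso (ModuleCat.{u} A) (ComplexShape.up ℤ)) :=
  hasPointwise_of_good (L := DerivedCategory.Q) fun X => by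
    obtain ⟨I, s, hI, hs⟩ := exists_res X
    exact ⟨I, s, by simpa [HomologicalComplex.mem_quasiIso_iff] using hs, good K I⟩

variable [DRing.HasRHomCx K]

/-- The unit of `RHom(K, -)`. -/
noncomputable abbrev unit : DRing.homCxQ K ⟶ DerivedCategory.Q ⋙ DRing.RHomCx K :=
  (DRing.homCxQ K).totalRightDerivedUnit DerivedCategory.Q
    (HomologicalComplex.quasiIso (ModuleCat.{u} A) (ComplexShape.up ℤ))

theorem isIso_unit (I : DRing.Cx A) [I.IsKInjective] : IsIso ((unit K).app I) :=
  isIso_unit_of_good (W := HomologicalComplex.quasiIso (ModuleCat.{u} A) (ComplexShape.up ℤ))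
    (DRing.RHomCx K) (unit K) (good K I)

omit [DRing.HasRHomCx K] in
/-- A degreewise splitting is preserved by `Hom(K, -)`. -/
noncomputable def splitting (S : ShortComplex (DRing.Cx A))
    (σ : ∀ n, (S.map (HomologicalComplex.eval _ _ n)).Splitting) (n : ℤ) :
    ((S.map (DRing.homCxFunctor K)).map (HomologicalComplex.eval _ _ n)).Splitting where
  r := ModuleCat.ofHom
    { toFun := fun z : Cochain K S.X₂ n => z.comp (Cochain.ofHoms (F := S.X₂) (G := S.X₁) fun q => ((σ q).r : S.X₂.X q ⟶ S.X₁.X q)) (add_zero n)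
      map_add' := fun _ _ => Cochain.add_comp _ _ _ _
      map_smul' := fun _ _ => Cochain.smul_comp _ _ _ _ }
  s := ModuleCat.ofHom
    { toFun := fun z : Cochain K S.X₃ n => z.comp (Cochain.ofHoms (F := S.X₃) (G := S.X₂) fun q => ((σ q).s : S.X₃.X q ⟶ S.X₂.X q)) (add_zero n)
      map_add' := fun _ _ => Cochain.add_comp _ _ _ _
      map_smul' := fun _ _ => Cochain.smul_comp _ _ _ _ }
  f_r := ModuleCat.hom_ext (LinearMap.ext fun (z : Cochain K S.X₁ n) => by
    change (z.comp (Cochain.ofHom S.f) (add_zero n)).comp (Cochain.ofHoms (F := S.X₂) (G := S.X₁) fun q => ((σ q).r : S.X₂.X q ⟶ S.X₁.X q)) (add_zero n) = z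
    refine Cochain.ext _ _ fun p q h => ?_
    have : S.f.f q ≫ ((σ q).r : S.X₂.X q ⟶ S.X₁.X q) = 𝟙 _ := (σ q).f_r
    rw [Cochain.comp_zero_cochain_v, Cochain.comp_zero_cochain_v, Cochain.ofHom_v, Cochain.ofHoms_v,
      Category.assoc]
    exact (congrArg (z.v p q h ≫ ·) this).trans (Category.comp_id _))
  s_g := ModuleCat.hom_ext (LinearMap.ext fun (z : Cochain K S.X₃ n) => by
    change (z.comp (Cochain.ofHoms (F := S.X₃) (G := S.X₂) fun q => ((σ q).s : S.X₃.X q ⟶ S.X₂.X q)) (add_zero n)).comp (Cochain.ofHom S.g) (add_zero n) = z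
    refine Cochain.ext _ _ fun p q h => ?_
    have : ((σ q).s : S.X₃.X q ⟶ S.X₂.X q) ≫ S.g.f q = 𝟙 _ := (σ q).s_g
    rw [Cochain.comp_zero_cochain_v, Cochain.comp_zero_cochain_v, Cochain.ofHom_v, Cochain.ofHoms_v,
      Category.assoc]
    exact (congrArg (z.v p q h ≫ ·) this).trans (Category.comp_id _))
  id := ModuleCat.hom_ext (LinearMap.ext fun (z : Cochain K S.X₂ n) => by
    change (z.comp (Cochain.ofHoms (F := S.X₂) (G := S.X₁) fun q => ((σ q).r : S.X₂.X q ⟶ S.X₁.X q)) (add_zero n)).comp (Cochain.ofHom S.f) (add_zero n) +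
      (z.comp (Cochain.ofHom S.g) (add_zero n)).comp (Cochain.ofHoms (F := S.X₃) (G := S.X₂) fun q => ((σ q).s : S.X₃.X q ⟶ S.X₂.X q)) (add_zero n) = z
    refine Cochain.ext _ _ fun p q h => ?_
    let r' : S.X₂.X q ⟶ S.X₁.X q := (σ q).r
    let s' : S.X₃.X q ⟶ S.X₂.X q := (σ q).s
    have : r' ≫ S.f.f q + S.g.f q ≫ s' = 𝟙 _ := (σ q).id
    simp only [Cochain.add_v, Cochain.comp_zero_cochain_v, Cochain.ofHom_v, Cochain.ofHoms_v,
      Category.assoc]
    show z.v p q h ≫ r' ≫ S.f.f q + z.v p q h ≫ S.g.f q ≫ s' = z.v p q h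
    rw [← Preadditive.comp_add, this, Category.comp_id])

/-- Bounded above complexes of projectives compute `RHom`. -/
theorem nonempty_iso_homCx (b : ℤ) (hb : DRing.VanishesAbove K b)
    (hK : ∀ i : ℤ, Module.Projective A (K.X i)) (L : DRing.Cx A) :
    Nonempty ((DRing.RHomCx K).obj (DRing.toD L) ≅ DRing.toD (DRing.homCx K L)) := by
  haveI : K.IsStrictlyLE b := (CochainComplex.isStrictlyLE_iff _ _).2 hb
  haveI : ∀ i, Projective (K.X i) := fun i => (IsProjective.iff_projective (K.X i)).1 (hK i)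
  haveI := CochainComplex.isKProjective_of_projective K b
  obtain ⟨I, s, hI, hs⟩ := exists_res L
  have h1 : QuasiIso ((DRing.homCxFunctor K).map s) := KFlat.quasiIso_map_of_preserves _
    (fun S σ => KFlat.shortExact_of_splitting _ (splitting K S σ))
    (fun M hM n => (((DRing.homCxFunctor K).obj M).exactAt_iff_isZero_homology n).2 (@ModuleCat.isZero_of_subsingleton _ _ _
      (LocCohLib.subsingleton_homology_of_isKProjective (X := K) hM n))) s hs
  haveI : IsIso (DerivedCategory.Q.map ((DRing.homCxFunctor K).map s)) := (DerivedCategory.isIso_Q_map_iff_quasiIso _ _).2 h1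
  haveI : IsIso (DerivedCategory.Q.map s) := (DerivedCategory.isIso_Q_map_iff_quasiIso _ _).2 hs
  haveI := isIso_unit K I
  exact ⟨(DRing.RHomCx K).mapIso (asIso (DerivedCategory.Q.map s)) ≪≫ (asIso ((unit K).app I)).symm ≪≫
    (asIso (DerivedCategory.Q.map ((DRing.homCxFunctor K).map s))).symm⟩

end Groth.Agent.RHomCx
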