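import Groth.Agent.RHomCx.Loc
import Groth.Agent.KFlat.Tensor
import Mathlib.Algebra.Homology.HomotopyCategory.DegreewiseSplit
import Mathlib.RingTheory.Nilpotent.Lemmas
import Mathlib.RingTheory.Noetherian.Nilpotent

/-!
# The extended Čech complex in degree zero
-/

set_option autoImplicit false
set_option linter.style.haveILetI false

open CategoryTheory CategoryTheory.Limits

universe u

namespace Groth.Agent.RHomCx

open CochainComplex

variable {A : Type u} [CommRing A]

theorem extCech_X_neg (M : ModuleCat.{u} A) : ∀ (l : List A) (n : ℤ), n < 0 → IsZero ((DerCA.extCech M l).X n) := by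
  intro l
  induction l with
  | nil =>
    intro n hn
    exact HomologicalComplex.isZero_single_obj_X (ComplexShape.up ℤ) 0 M n (by omega)
  | cons f l ih =>
    intro n hn
    refine IsZero.of_iso ?_ (DerCA.mappingCoconeXIso _ n)
    rw [Limits.biprod_isZero_iff]
    exact ⟨ih n hn, (DerCA.locFunctor (Submonoid.powers f)).map_isZero (ih (n - 1) (by omega))⟩

theorem exists_projection (M : ModuleCat.{u} A) : ∀ (l : List A),
    ∃ π : DerCA.extCech M l ⟶ (HomologicalComplex.single (ModuleCat.{u} A) (ComplexShape.up ℤ) 0).obj M,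
      Function.Injective (HomologicalComplex.homologyMap π 0).hom ∧
        ∀ y, y ∈ LinearMap.range (HomologicalComplex.homologyMap π 0).hom ↔ ∀ f ∈ l, ∃ n : ℕ, f ^ n • y = 0 := by
  intro l
  induction l with
  | nil =>
    refine ⟨𝟙 _, ?_, fun y => ⟨fun _ f hf => absurd hf List.not_mem_nil, fun _ => ⟨y, ?_⟩⟩⟩
    · have h := HomologicalComplex.homologyMap_id (DerCA.extCech M []) 0
      exact fun x y hxy => ((ConcreteCategory.congr_hom h x).symm.trans hxy).trans (ConcreteCategory.congr_hom h y)
    · exact ConcreteCategory.congr_hom (HomologicalComplex.homologyMap_id (DerCA.extCech M []) 0) y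
  | cons f l ih =>
    obtain ⟨π, hinj, hrange⟩ := ih
    let K := DerCA.extCech M l
    let φ := DerCA.locCxUnit (Submonoid.powers f) K
    let S := mappingCone.triangleRotateShortComplex φ
    let S' := S.map (CategoryTheory.shiftFunctor (DRing.Cx A) (-1 : ℤ))
    have hS' : S'.ShortExact :=
      (KFlat.shortExact_of_splitting S (mappingCone.triangleRotateShortComplexSplitting φ)).map_of_exact _
    haveI : ∀ p, IsIso ((f • 𝟙 S'.X₁).f p) := fun p => (ConcreteCategory.isIso_iff_bijective _).2
      ((Module.End.isUnit_iff _).1 (IsLocalizedModule.map_units (S := Submonoid.powers f)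
        (LocalizedModule.mkLinearMap (Submonoid.powers f) (K.X (p + (-1))))
        (⟨f, Submonoid.mem_powers f⟩ : Submonoid.powers f)))
    haveI : IsIso (f • 𝟙 S'.X₁) := HomologicalComplex.Hom.isIso_of_components _
    have hb : ∀ x : S'.X₁.homology (0 + 1), f • x = 0 → x = 0 := fun x hx =>
      (ConcreteCategory.bijective_of_isIso (HomologicalComplex.homologyMap (f • 𝟙 S'.X₁) (0 + 1))).1
        (((homologyMap_smul_id' _ f _ x).trans hx).trans
          (map_zero (HomologicalComplex.homologyMap (f • 𝟙 S'.X₁) (0 + 1)).hom).symm)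
    have hzero : IsZero (S'.X₁.homology 0) :=
      ShortComplex.isZero_homology_of_isZero_X₂ _
        ((DerCA.locFunctor (Submonoid.powers f)).map_isZero (extCech_X_neg M l (0 + (-1)) (by omega)))
    have hmono : Mono (HomologicalComplex.homologyMap S'.g 0) :=
      (hS'.homology_exact₂ 0).mono_g (hzero.eq_of_src _ _)
    have hex := (ShortComplex.ShortExact.moduleCat_exact_iff_function_exact _).1
      (hS'.homology_exact₃ 0 (0 + 1) (by simp))
    have ht : Tors f S'.X₂ := tors_extCech M (f :: l) f List.mem_cons_self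
    have key : ∀ x : S'.X₃.homology 0,
        (x ∈ LinearMap.range (HomologicalComplex.homologyMap S'.g 0).hom) ↔ ∃ n : ℕ, f ^ n • x = 0 := by
      intro x
      refine ⟨?_, fun ⟨n, hn⟩ => ?_⟩
      · rintro ⟨y, rfl⟩
        obtain ⟨n, hn⟩ := ht 0 y
        exact ⟨n, (map_smul (HomologicalComplex.homologyMap S'.g 0).hom _ _).symm.trans
          ((congrArg _ hn).trans (map_zero _))⟩
      · let δ := (hS'.δ 0 (0 + 1) (by simp)).hom
        have hδ : ∀ (n : ℕ) (w : S'.X₁.homology (0 + 1)), f ^ n • w = 0 → w = 0 := by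
          intro n
          induction n with
          | zero => intro w hw; rwa [pow_zero, one_smul] at hw
          | succ n ih => intro w hw; rw [pow_succ', mul_smul] at hw; exact ih w (hb _ hw)
        obtain ⟨y, hy⟩ := (hex x).1 (hδ n (δ x) (((map_smul δ (f ^ n) x).symm).trans
          ((congrArg δ hn).trans (map_zero δ))))
        exact ⟨y, hy⟩
    let e₃ : S'.X₃ ≅ K := (shiftFunctorCompIsoId (DRing.Cx A) (1 : ℤ) (-1) (by lia)).app K
    let h₃ := ((HomologicalComplex.homologyFunctor (ModuleCat.{u} A) (ComplexShape.up ℤ) 0).mapIso e₃).toLinearEquiv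
    have hcomp : ∀ y : S'.X₂.homology 0, (HomologicalComplex.homologyMap (S'.g ≫ e₃.hom ≫ π) 0).hom y =
        (HomologicalComplex.homologyMap π 0).hom (h₃ ((HomologicalComplex.homologyMap S'.g 0).hom y)) := fun y => by
      rw [HomologicalComplex.homologyMap_comp, HomologicalComplex.homologyMap_comp]
      rfl
    refine ⟨S'.g ≫ e₃.hom ≫ π, fun y z hyz => ?_, fun y => ?_⟩
    · exact (ModuleCat.mono_iff_injective _).1 hmono
        (h₃.injective (hinj ((hcomp y).symm.trans (hyz.trans (hcomp z)))))
    · constructor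
      · rintro ⟨x, rfl⟩ g hg
        rcases List.mem_cons.1 hg with rfl | hg
        · obtain ⟨n, hn⟩ := ht 0 x
          exact ⟨n, (map_smul (HomologicalComplex.homologyMap (S'.g ≫ e₃.hom ≫ π) 0).hom _ _).symm.trans
            ((congrArg _ hn).trans (map_zero _))⟩
        · exact (hrange _).1 ⟨_, (hcomp x).symm⟩ g hg
      · intro h
        obtain ⟨x, rfl⟩ := (hrange y).2 fun g hg => h g (List.mem_cons_of_mem _ hg)
        obtain ⟨n, hn⟩ := h f List.mem_cons_self
        have hx : f ^ n • x = 0 := hinj (by rw [map_smul, hn, map_zero])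
        obtain ⟨w, hw⟩ := (key (h₃.symm x)).2 ⟨n, (map_smul h₃.symm (f ^ n) x).symm.trans ((congrArg h₃.symm hx).trans (map_zero h₃.symm))⟩
        exact ⟨w, (hcomp w).trans (congrArg _ ((congrArg h₃ hw).trans (h₃.apply_symm_apply x)))⟩

theorem mem_torsionSub_span_iff {A : Type u} [CommRing A] (l : List A) {M : Type u} [AddCommGroup M] [Module A M] (m : M) :
    m ∈ DRing.torsionSub (Ideal.span {x | x ∈ l}) M ↔ ∀ f ∈ l, ∃ n : ℕ, f ^ n • m = 0 := by
  refine ⟨fun ⟨n, hn⟩ f hf => ⟨n, hn _ (Ideal.pow_mem_pow (Ideal.subset_span (α := A) (show f ∈ {x : A | x ∈ l} from hf)) n)⟩, fun h => ?_⟩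
  have hle : Ideal.span {x | x ∈ l} ≤ (Submodule.span A {m}).annihilator.radical := by
    refine Ideal.span_le.2 fun f hf => ?_
    obtain ⟨k, hk⟩ := h f hf
    exact ⟨k, (Submodule.mem_annihilator_span_singleton _ _).2 hk⟩
  obtain ⟨n, hn⟩ := Ideal.exists_pow_le_of_le_radical_of_fg hle
    (Submodule.fg_span (List.finite_toSet l))
  exact ⟨n, fun a ha => (Submodule.mem_annihilator_span_singleton _ _).1 (hn ha)⟩

theorem nonempty_extCechH_zero (M : ModuleCat.{u} A) (l : List A) :
    Nonempty (DerCA.extCechH l M 0 ≅ (DRing.gammaI (Ideal.span {x | x ∈ l})).obj M) := by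
  obtain ⟨π, hinj, hrange⟩ := exists_projection M l
  let e := (HomologicalComplex.singleObjHomologySelfIso (ComplexShape.up ℤ) 0 M).toLinearEquiv
  let ψ : (DerCA.extCech M l).homology 0 →ₗ[A] M := e.toLinearMap.comp (HomologicalComplex.homologyMap π 0).hom
  have hr : ∀ y : M, y ∈ LinearMap.range ψ ↔ y ∈ DRing.torsionSub (Ideal.span {x | x ∈ l}) M := fun y => by
    rw [mem_torsionSub_span_iff]
    constructor
    · rintro ⟨x, rfl⟩ f hf
      obtain ⟨n, hn⟩ := (hrange _).1 ⟨x, rfl⟩ f hf
      exact ⟨n, (map_smul e _ _).symm.trans ((congrArg e hn).trans (map_zero e))⟩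
    · intro h
      obtain ⟨x, hx⟩ := (hrange (e.symm y)).2 fun f hf => by
        obtain ⟨n, hn⟩ := h f hf
        exact ⟨n, by rw [← map_smul, hn, map_zero]⟩
      exact ⟨x, (congrArg e hx).trans (e.apply_symm_apply y)⟩
  exact ⟨(LinearEquiv.ofInjective ψ (e.injective.comp hinj) ≪≫ₗ
    LinearEquiv.ofEq _ _ (Submodule.ext hr)).toModuleIso⟩

end Groth.Agent.RHomCx
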