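import Groth.Agent.LocCohLib.CechCompare
import Groth.Agent.DComplete.Away
import Groth.Agent.DRingPC.TorAmp
import Mathlib.Algebra.Module.LocalizedModule.Away
import Mathlib.RingTheory.Flat.Localization

/-!
# Torsion of the extended Čech complex
-/

set_option autoImplicit false
set_option linter.style.haveILetI false

open CategoryTheory CategoryTheory.Limits CategoryTheory.Pretriangulated

universe u

attribute [local instance] HasDerivedCategory.standard

namespace Groth.Agent.RHomCx

open LocCohLib

variable {A : Type u} [CommRing A]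

/-- Every cohomology class is killed by a power of `g`. -/
def Tors (g : A) (K : DRing.Cx A) : Prop :=
  ∀ (n : ℤ) (x : K.homology n), ∃ k : ℕ, g ^ k • x = 0

/-- Homology commutes with exact functors. -/
noncomputable def homologyMapIso (F : ModuleCat.{u} A ⥤ ModuleCat.{u} A) [F.Additive]
    [F.PreservesHomology] (K : DRing.Cx A) (n : ℤ) :
    ((F.mapHomologicalComplex (ComplexShape.up ℤ)).obj K).homology n ≅ F.obj (K.homology n) :=
  (K.sc n).mapHomologyIso F

theorem acyclic_map_of (F : ModuleCat.{u} A ⥤ ModuleCat.{u} A) [F.Additive] [F.PreservesHomology]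
    (K : DRing.Cx A) (h : ∀ n, IsZero (F.obj (K.homology n))) :
    ((F.mapHomologicalComplex (ComplexShape.up ℤ)).obj K).Acyclic := fun n =>
  (HomologicalComplex.exactAt_iff_isZero_homology _ n).2 ((h n).of_iso (homologyMapIso F K n))

theorem isZero_loc_iff (g : A) (M : ModuleCat.{u} A) :
    IsZero ((DerCA.locFunctor (Submonoid.powers g)).obj M) ↔ ∀ x : M, ∃ k : ℕ, g ^ k • x = 0 := by
  refine ⟨fun h x => ?_, fun h => ?_⟩
  · haveI := ModuleCat.subsingleton_of_isZero h
    obtain ⟨⟨_, k, rfl⟩, hk⟩ := (IsLocalizedModule.eq_zero_iff (Submonoid.powers g)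
      (LocalizedModule.mkLinearMap (Submonoid.powers g) M)).1
        (Subsingleton.elim (α := (DerCA.locFunctor (Submonoid.powers g)).obj M) _ 0 :
          (LocalizedModule.mkLinearMap (Submonoid.powers g) M x) = 0)
    exact ⟨k, hk⟩
  · refine @ModuleCat.isZero_of_subsingleton _ _ _ (subsingleton_of_forall_eq 0
      fun (x : LocalizedModule (Submonoid.powers g) M) => ?_)
    induction x using LocalizedModule.induction_on with
    | h m s =>
      obtain ⟨k, hk⟩ := h m
      refine Eq.trans ?_ (LocalizedModule.zero_mk s)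
      exact LocalizedModule.mk_eq.2 ⟨⟨g ^ k, k, rfl⟩, by
        show g ^ k • (s : A) • m = g ^ k • (s : A) • (0 : M)
        rw [smul_zero, smul_zero, smul_comm, hk, smul_zero]⟩

theorem tors_iff (g : A) (K : DRing.Cx A) :
    Tors g K ↔ ((DerCA.locCx (Submonoid.powers g)).obj K).Acyclic :=
  ⟨fun h => acyclic_map_of _ K fun n => (isZero_loc_iff g _).2 (h n), fun h n =>
    (isZero_loc_iff g _).1 (((HomologicalComplex.exactAt_iff_isZero_homology _ n).1 (h n)).of_iso
      (homologyMapIso (DerCA.locFunctor (Submonoid.powers g)) K n).symm)⟩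

theorem Tors.loc {g : A} {K : DRing.Cx A} (h : Tors g K) (f : A) :
    Tors g ((DerCA.locCx (Submonoid.powers f)).obj K) := by
  intro n x
  let e := (homologyMapIso (DerCA.locFunctor (Submonoid.powers f)) K n).toLinearEquiv
  suffices h2 : ∀ y : LocalizedModule (Submonoid.powers f) (K.homology n), ∃ k : ℕ, g ^ k • y = 0 by
    obtain ⟨k, hk⟩ := h2 (e x)
    exact ⟨k, e.injective (((map_smul e _ x).trans hk).trans (map_zero e).symm)⟩
  intro y
  induction y using LocalizedModule.induction_on with
  | h m s =>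
    obtain ⟨k, hk⟩ := h n m
    exact ⟨k, by rw [LocalizedModule.smul'_mk, hk, LocalizedModule.zero_mk]⟩

theorem isZero_Q_iff (K : DRing.Cx A) : IsZero (DerivedCategory.Q.obj K) ↔ K.Acyclic :=
  ⟨fun h n => (HomologicalComplex.exactAt_iff_isZero_homology _ n).2
      (((DerivedCategory.homologyFunctor (ModuleCat.{u} A) n).map_isZero h).of_iso
        ((DerivedCategory.homologyFunctorFactors (ModuleCat.{u} A) n).app K).symm),
    fun h => DComplete.isZero_of_forall_isZero _ fun n =>
      ((HomologicalComplex.exactAt_iff_isZero_homology _ n).1 (h n)).of_iso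
        ((DerivedCategory.homologyFunctorFactors (ModuleCat.{u} A) n).app K)⟩

theorem isIso_loc_map_unit (f : A) (M : ModuleCat.{u} A) :
    IsIso ((DerCA.locFunctor (Submonoid.powers f)).map ((DerCA.locUnit (Submonoid.powers f)).app M)) := by
  let S := Submonoid.powers f
  let u := DerCA.locUnit.{u} (R := A) S
  let F := DerCA.locFunctor.{u} (R := A) S
  haveI : IsIso (u.app (F.obj M)) := by
    refine (ConcreteCategory.isIso_iff_bijective _).2 ?_
    exact ⟨fun x y hxy => by
        obtain ⟨s, hs⟩ := (IsLocalizedModule.eq_iff_exists S (LocalizedModule.mkLinearMap S (LocalizedModule S M))).1 hxy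
        exact ((Module.End.isUnit_iff _).1
          (IsLocalizedModule.map_units (LocalizedModule.mkLinearMap S M) s)).1 hs,
      fun z => by
        obtain ⟨⟨m, s⟩, hm⟩ := IsLocalizedModule.surj S (LocalizedModule.mkLinearMap S (LocalizedModule S M)) z
        obtain ⟨y, hy⟩ := ((Module.End.isUnit_iff _).1
          (IsLocalizedModule.map_units (LocalizedModule.mkLinearMap S M) s)).2 m
        refine ⟨y, ((Module.End.isUnit_iff _).1 (IsLocalizedModule.map_units
          (LocalizedModule.mkLinearMap S (LocalizedModule S M)) s)).1 ?_⟩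
        exact ((map_smul (LocalizedModule.mkLinearMap S (LocalizedModule S M)) (s : A) y).symm.trans
          (congrArg _ hy)).trans hm.symm⟩
  have h : F.map (u.app M) = u.app (F.obj M) :=
    ModuleCat.hom_ext (IsLocalizedModule.ext S (LocalizedModule.mkLinearMap S M)
      (IsLocalizedModule.map_units (LocalizedModule.mkLinearMap S (LocalizedModule S M)))
      (congrArg ModuleCat.Hom.hom (u.naturality (u.app M)).symm))
  show IsIso (F.map (u.app M))
  rw [h]
  infer_instance

theorem homologyMap_smul_id' (U : DRing.Cx A) (f : A) (n : ℤ) (x : U.homology n) :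
    HomologicalComplex.homologyMap (f • 𝟙 U) n x = f • x := by
  obtain ⟨z, rfl⟩ := scCls_surjective (U.sc n) x
  exact (scCls_map ((HomologicalComplex.shortComplexFunctor _ _ n).map (f • 𝟙 U)) z (f • z) rfl).trans
    (map_smul (scCls (U.sc n)) f z)

theorem isIso_of_isZero_both {C : Type*} [Category C] [HasZeroMorphisms C] {X Y : C} {f : X ⟶ Y}
    (hX : IsZero X) (hY : IsZero Y) : IsIso f :=
  ⟨0, hX.eq_of_src _ _, hY.eq_of_src _ _⟩

/-- Torsion of a cocone. -/
theorem tors_cocone {g : A} {K L : DRing.Cx A} (φ : K ⟶ L)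
    [IsIso (DerivedCategory.Q.map ((DerCA.locCx (Submonoid.powers g)).map φ))] :
    Tors g (CochainComplex.mappingCocone φ) := by
  rw [tors_iff, ← isZero_Q_iff]
  let F := (DerCA.locFunctor.{u} (R := A) (Submonoid.powers g)).mapDerivedCategory
  let fac := (DerCA.locFunctor.{u} (R := A) (Submonoid.powers g)).mapDerivedCategoryFactors
  have hT := F.map_distinguished _ (DerivedCategory.mappingCone_triangle_distinguished φ)
  haveI h1 : IsIso (F.map (DerivedCategory.Q.map φ)) :=
    ((MorphismProperty.isomorphisms _).arrow_mk_iso_iff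
      (Arrow.isoMk' (F.map (DerivedCategory.Q.map φ))
        (DerivedCategory.Q.map ((DerCA.locCx (Submonoid.powers g)).map φ))
        (fac.app K) (fac.app L) (fac.hom.naturality φ).symm)).2 ‹_›
  have h3 : IsZero (F.obj (DerivedCategory.Q.obj (CochainComplex.mappingCone φ))) :=
    (Triangle.isZero₃_iff_isIso₁ _ hT).2 h1
  refine IsZero.of_iso (Functor.map_isZero (shiftFunctor (Dual.D A) (-1 : ℤ)) h3) ?_
  exact (fac.app (CochainComplex.mappingCocone φ)).symm ≪≫
    F.mapIso ((DerivedCategory.Q.commShiftIso (-1 : ℤ)).app (CochainComplex.mappingCone φ)) ≪≫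
    (F.commShiftIso (-1 : ℤ)).app _

theorem tors_extCech (M : ModuleCat.{u} A) : ∀ (l : List A), ∀ g ∈ l, Tors g (DerCA.extCech M l) := by
  intro l
  induction l with
  | nil => exact fun g hg => absurd hg List.not_mem_nil
  | cons f l ih =>
    intro g hg
    show Tors g (CochainComplex.mappingCocone (DerCA.locCxUnit (Submonoid.powers f) (DerCA.extCech M l)))
    rcases List.mem_cons.1 hg with rfl | hg
    · haveI : ∀ i, IsIso (((DerCA.locCx (Submonoid.powers g)).map
          (DerCA.locCxUnit (Submonoid.powers g) (DerCA.extCech M l))).f i) := fun i =>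
        isIso_loc_map_unit g ((DerCA.extCech M l).X i)
      haveI : IsIso ((DerCA.locCx (Submonoid.powers g)).map
          (DerCA.locCxUnit (Submonoid.powers g) (DerCA.extCech M l))) :=
        HomologicalComplex.Hom.isIso_of_components _
      exact tors_cocone _
    · haveI : IsIso (DerivedCategory.Q.map ((DerCA.locCx (Submonoid.powers g)).map
          (DerCA.locCxUnit (Submonoid.powers f) (DerCA.extCech M l)))) :=
        isIso_of_isZero_both ((isZero_Q_iff _).2 ((tors_iff g _).1 (ih g hg)))
          ((isZero_Q_iff _).2 ((tors_iff g _).1 ((ih g hg).loc f)))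
      exact tors_cocone _

theorem pow_smul_homology (M : ModuleCat.{u} A) (l : List A) (q : ℤ) (x : DerCA.extCechH l M q) :
    ∃ n : ℕ, 1 ≤ n ∧ ∀ f ∈ l, f ^ n • x = 0 := by
  suffices h : ∀ l' : List A, (∀ f ∈ l', f ∈ l) → ∃ n : ℕ, ∀ f ∈ l', f ^ n • x = 0 by
    obtain ⟨n, hn⟩ := h l fun _ h => h
    exact ⟨n + 1, Nat.le_add_left 1 n, fun f hf => by rw [pow_succ', mul_smul, hn f hf, smul_zero]⟩
  intro l'
  induction l' with
  | nil => exact fun _ => ⟨0, fun f hf => absurd hf List.not_mem_nil⟩
  | cons g l' ih =>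
    intro h
    obtain ⟨n, hn⟩ := ih fun f hf => h f (List.mem_cons_of_mem _ hf)
    obtain ⟨k, hk⟩ := tors_extCech M l g (h g List.mem_cons_self) q x
    refine ⟨max n k, fun f hf => ?_⟩
    rcases List.mem_cons.1 hf with rfl | hf
    · obtain ⟨j, hj⟩ := Nat.exists_eq_add_of_le (le_max_right n k)
      rw [hj, pow_add, mul_comm, mul_smul, hk, smul_zero]
    · obtain ⟨j, hj⟩ := Nat.exists_eq_add_of_le (le_max_left n k)
      rw [hj, pow_add, mul_comm, mul_smul, hn f hf, smul_zero]

theorem isIso_smul_X (M : ModuleCat.{u} A) (a : A) [IsIso (a • 𝟙 M)] :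
    ∀ (l : List A) (n : ℤ), IsIso (a • 𝟙 ((DerCA.extCech M l).X n)) := by
  intro l
  induction l with
  | nil =>
    intro n
    by_cases hn : n = 0
    · subst hn
      let e := HomologicalComplex.singleObjXSelf (ComplexShape.up ℤ) 0 M
      have : a • 𝟙 ((DerCA.extCech M []).X 0) = e.hom ≫ (a • 𝟙 M) ≫ e.inv := by
        rw [Linear.smul_comp, Category.id_comp, Linear.comp_smul, e.hom_inv_id]
        rfl
      rw [this]
      exact IsIso.comp_isIso' inferInstance (IsIso.comp_isIso' ‹IsIso (a • 𝟙 M)› inferInstance)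
    · have h := HomologicalComplex.isZero_single_obj_X (ComplexShape.up ℤ) 0 M n hn
      exact isIso_of_isZero_both h h
  | cons f l ih =>
    intro n
    let F := DerCA.locFunctor.{u} (R := A) (Submonoid.powers f)
    let K := DerCA.extCech M l
    haveI := ih n
    haveI := ih (n - 1)
    haveI : IsIso (a • 𝟙 (F.obj (K.X (n - 1)))) := by
      have h : F.map (a • 𝟙 (K.X (n - 1))) = a • 𝟙 (F.obj (K.X (n - 1))) :=
        ModuleCat.hom_ext (IsLocalizedModule.ext (Submonoid.powers f) (LocalizedModule.mkLinearMap _ _)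
          (IsLocalizedModule.map_units (LocalizedModule.mkLinearMap _ _)) (LinearMap.ext fun x => by
            exact (IsLocalizedModule.map_apply _ _ _ _ x).trans (map_smul (LocalizedModule.mkLinearMap _ _) a x)))
      rw [← h]
      infer_instance
    let e : (DerCA.extCech M (f :: l)).X n ≅ K.X n ⊞ F.obj (K.X (n - 1)) := DerCA.mappingCoconeXIso _ n
    have : a • 𝟙 ((DerCA.extCech M (f :: l)).X n) = e.hom ≫
        biprod.map (a • 𝟙 (K.X n)) (a • 𝟙 (F.obj (K.X (n - 1)))) ≫ e.inv := by
      have hb : biprod.map (a • 𝟙 (K.X n)) (a • 𝟙 (F.obj (K.X (n - 1)))) = a • 𝟙 _ := by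
        apply biprod.hom_ext <;> simp
      rw [hb, Linear.smul_comp, Category.id_comp, Linear.comp_smul, e.hom_inv_id]
    rw [this]
    exact IsIso.comp_isIso' inferInstance (IsIso.comp_isIso'
      (show IsIso (biprod.mapIso (asIso (a • 𝟙 (K.X n))) (asIso (a • 𝟙 (F.obj (K.X (n - 1)))))).hom from inferInstance)
      inferInstance)

theorem isZero_of_mem_span (M : ModuleCat.{u} A) (l : List A) (a : A)
    (ha : a ∈ Ideal.span {b : A | b ∈ l}) (hbij : Function.Bijective fun m : M => a • m) (q : ℤ) :
    IsZero (DerCA.extCechH l M q) := by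
  haveI : IsIso (a • 𝟙 M) := (ConcreteCategory.isIso_iff_bijective _).2 hbij
  haveI : ∀ n, IsIso ((a • 𝟙 (DerCA.extCech M l)).f n) := isIso_smul_X M a l
  haveI : IsIso (a • 𝟙 (DerCA.extCech M l)) := HomologicalComplex.Hom.isIso_of_components _
  refine @ModuleCat.isZero_of_subsingleton _ _ _ (subsingleton_of_forall_eq 0 fun x => ?_)
  have hrad : a ∈ ((Submodule.span A {x}).annihilator).radical := by
    refine Ideal.span_le.2 (fun b hb => ?_) ha
    obtain ⟨k, hk⟩ := tors_extCech M l b hb q x
    exact ⟨k, (Submodule.mem_annihilator_span_singleton _ _).2 hk⟩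
  obtain ⟨k, hk⟩ := hrad
  have hk' : a ^ k • x = 0 := (Submodule.mem_annihilator_span_singleton _ _).1 hk
  have hinj : Function.Injective fun y : (DerCA.extCech M l).homology q => a • y := by
    have h := (ConcreteCategory.bijective_of_isIso
      (HomologicalComplex.homologyMap (a • 𝟙 (DerCA.extCech M l)) q)).1
    intro y z hyz
    exact h ((homologyMap_smul_id' _ a q y).trans (hyz.trans (homologyMap_smul_id' _ a q z).symm))
  clear hk
  induction k generalizing x with
  | zero => rwa [pow_zero, one_smul] at hk'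
  | succ k ih =>
    refine ih x (hinj ?_)
    show a • a ^ k • x = a • (0 : _)
    rw [smul_zero, smul_smul, ← pow_succ', hk']

end Groth.Agent.RHomCx
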