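import Groth.Agent.RHomCx.Basic
import Groth.Agent.TriH.KInj
import Mathlib.Algebra.Category.ModuleCat.Monoidal.Closed
import Mathlib.Algebra.Homology.HomotopyCategory.HomComplexSingle
import Mathlib.RingTheory.Flat.CategoryTheory
import Mathlib.RingTheory.Localization.BaseChange

/-!
# The derived Hom out of a flat module
-/

set_option autoImplicit false
set_option linter.style.haveILetI false

open CategoryTheory CategoryTheory.Limits MonoidalCategory

universe u

attribute [local instance] HasDerivedCategory.standard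

namespace Groth.Agent.RHomCx

open CochainComplex CochainComplex.HomComplex

variable {A : Type u} [CommRing A]

/-- A module in degree zero. -/
noncomputable abbrev sgl (M : ModuleCat.{u} A) : DRing.Cx A :=
  (HomologicalComplex.single (ModuleCat.{u} A) (ComplexShape.up ℤ) 0).obj M

instance (M : ModuleCat.{u} A) : (ihom M).Additive := (ihom.adjunction M).right_adjoint_additive

/-- The termwise Hom complex. -/
noncomputable abbrev coindCx (M : ModuleCat.{u} A) : DRing.Cx A ⥤ DRing.Cx A :=
  (ihom M).mapHomologicalComplex (ComplexShape.up ℤ)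

/-- Cochains out of a module in degree zero. -/
noncomputable def fromSglEquiv (M : ModuleCat.{u} A) (L : DRing.Cx A) (i : ℤ) :
    Cochain (sgl M) L i ≃ₗ[A] (M ⟶ L.X i) :=
  { Cochain.fromSingleEquiv (K := L) (X := M) (p := 0) (q := i) (n := i) (zero_add i) with
    map_smul' := fun a z => by
      show _ ≫ (a • z).v 0 i (zero_add i) = a • (_ ≫ z.v 0 i (zero_add i))
      rw [Cochain.smul_v, Linear.comp_smul] }

/-- `Hom(M[0], L)` is computed termwise. -/
noncomputable def homCxSglIso (M : ModuleCat.{u} A) (L : DRing.Cx A) :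
    (DRing.homCxFunctor (sgl M)).obj L ≅ (coindCx M).obj L :=
  HomologicalComplex.Hom.isoOfComponents
    (fun i => LinearEquiv.toModuleIso (fromSglEquiv M L i)) (fun i j hij => by
      refine ModuleCat.hom_ext (LinearMap.ext fun (z : Cochain (sgl M) L i) => ?_)
      obtain ⟨w, hw⟩ := Cochain.fromSingleMk_surjective (K := L) (X := M) z i (zero_add i)
      show Cochain.fromSingleEquiv (zero_add i) z ≫ L.d i j = Cochain.fromSingleEquiv (zero_add j) (δ i j z)
      rw [← hw, Cochain.fromSingleEquiv_fromSingleMk, Cochain.δ_fromSingleMk w (zero_add i) j j (zero_add j),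
        Cochain.fromSingleEquiv_fromSingleMk])

theorem isKInjective_coind (M : ModuleCat.{u} A) [Module.Flat A M] (I : DRing.Cx A) [I.IsKInjective] :
    ((coindCx M).obj I).IsKInjective := by
  haveI := (Module.Flat.iff_preservesFiniteLimits_tensorLeft M).1 ‹_›
  haveI := (ihom.adjunction M).leftAdjoint_preservesColimits.{0, 0}
  exact TriH.isKInjective_map_of_adjunction _ _ (ihom.adjunction M) I

/-- `RHom(M, -)` on a K-injective complex. -/
theorem nonempty_sgl_iso (M : ModuleCat.{u} A) [DRing.HasRHomCx (sgl M)] (I : DRing.Cx A) [I.IsKInjective] :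
    Nonempty ((DRing.RHomCx (sgl M)).obj (DerivedCategory.Q.obj I) ≅
      DerivedCategory.Q.obj ((coindCx M).obj I)) :=
  haveI := isIso_unit (sgl M) I
  ⟨(asIso ((unit (sgl M)).app I)).symm ≪≫ DerivedCategory.Q.mapIso (homCxSglIso M I)⟩

/-- Iterated derived Hom out of flat modules. -/
theorem nonempty_comp_iso {M N P : ModuleCat.{u} A} [Module.Flat A N] [DRing.HasRHomCx (sgl M)]
    [DRing.HasRHomCx (sgl N)] [DRing.HasRHomCx (sgl P)] (e : N ⊗ M ≅ P) (K : Dual.D A) :
    Nonempty ((DRing.RHomCx (sgl M)).obj ((DRing.RHomCx (sgl N)).obj K) ≅ (DRing.RHomCx (sgl P)).obj K) := by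
  obtain ⟨I, hI, ⟨eI⟩⟩ := exists_rep K
  haveI := isKInjective_coind N I
  obtain ⟨a⟩ := nonempty_sgl_iso N I
  obtain ⟨b⟩ := nonempty_sgl_iso M ((coindCx N).obj I)
  obtain ⟨c⟩ := nonempty_sgl_iso P I
  let ν : tensorLeft P ≅ tensorLeft M ⋙ tensorLeft N :=
    (curriedTensor (ModuleCat.{u} A)).mapIso e.symm ≪≫ tensorLeftTensor N M
  let κ : ihom N ⋙ ihom M ≅ ihom P :=
    (((ihom.adjunction M).comp (ihom.adjunction N)).ofNatIsoLeft ν.symm).rightAdjointUniq (ihom.adjunction P)
  let d : (coindCx M).obj ((coindCx N).obj I) ≅ (coindCx P).obj I :=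
    HomologicalComplex.Hom.isoOfComponents (fun i => κ.app (I.X i))
      (fun i j _ => (κ.hom.naturality (I.d i j)).symm)
  exact ⟨(DRing.RHomCx (sgl M)).mapIso ((DRing.RHomCx (sgl N)).mapIso eI.symm ≪≫ a) ≪≫ b ≪≫
    DerivedCategory.Q.mapIso d ≪≫ c.symm ≪≫ (DRing.RHomCx (sgl P)).mapIso eI⟩

/-- `A_f ⊗ A_g ≅ A_{f g}`. -/
noncomputable def awayTensorIso (f g : A) :
    (ModuleCat.of A (Localization.Away f) ⊗ ModuleCat.of A (Localization.Away g) : ModuleCat.{u} A) ≅
      ModuleCat.of A (Localization.Away (f * g)) :=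
  haveI : IsLocalization.Away (f * g) (TensorProduct A (Localization.Away f) (Localization.Away g)) :=
    IsLocalization.Away.mul' (Localization.Away f) _ f g
  LinearEquiv.toModuleIso (IsLocalization.algEquiv (Submonoid.powers (f * g))
    (TensorProduct A (Localization.Away f) (Localization.Away g)) (Localization.Away (f * g))).toLinearEquiv

theorem nonempty_away_iso (f g : A) [DRing.HasRHomCx (sgl (ModuleCat.of A (Localization.Away f)))]
    [DRing.HasRHomCx (sgl (ModuleCat.of A (Localization.Away g)))]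
    [DRing.HasRHomCx (sgl (ModuleCat.of A (Localization.Away (f * g))))] (K : Dual.D A) :
    Nonempty ((DRing.RHomCx (sgl (ModuleCat.of A (Localization.Away f)))).obj
        ((DRing.RHomCx (sgl (ModuleCat.of A (Localization.Away g)))).obj K) ≅
      (DRing.RHomCx (sgl (ModuleCat.of A (Localization.Away (f * g))))).obj K) := by
  haveI : Module.Flat A (ModuleCat.of A (Localization.Away g)) :=
    IsLocalization.flat (Localization.Away g) (Submonoid.powers g)
  exact nonempty_comp_iso (β_ _ _ ≪≫ awayTensorIso f g) K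

end Groth.Agent.RHomCx
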