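import Groth.Agent.RHomCx.Complete
import Groth.Agent.RHomCx.Single
import Groth.Agent.RHomCx.Loc
import Groth.Agent.DComplete.Nakayama
import Groth.Agent.DRingPC.TorAmp

/-!
# Derived completion is `RHom` out of the extended Čech complex
-/

set_option autoImplicit false
set_option linter.style.haveILetI false

open CategoryTheory CategoryTheory.Limits CategoryTheory.Pretriangulated MonoidalCategory

universe u

attribute [local instance] HasDerivedCategory.standard

namespace Groth.Agent.RHomCx

open CochainComplex CochainComplex.HomComplex DComplete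
open DRingPC (tcx)

variable {A : Type u} [CommRing A]

theorem bij_congr {α β : Type*} {F F' : α → β} (h : Function.Bijective F) (he : ∀ x, F x = F' x) :
    Function.Bijective F' := funext he ▸ h

theorem bij_iso {C : Type*} [Category C] {X Y E : C} (g : X ⟶ Y) [IsIso g] :
    Function.Bijective fun α : Y ⟶ E => g ≫ α :=
  ⟨fun _ _ h => (cancel_epi g).1 h, fun b => ⟨inv g ≫ b, IsIso.hom_inv_id_assoc g b⟩⟩

theorem sub_smul_v {L I : DRing.Cx A} {i : ℤ} (a b : Cochain L I i) (g : A) (p q : ℤ) (h : p + i = q) :
    (a - g • b).v p q h = a.v p q h - g • b.v p q h := by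
  rw [Cochain.sub_v, Cochain.smul_v]

/-- The last map of a short exact sequence with acyclic first term is a quasi-isomorphism. -/
theorem quasiIso_g_of_acyclic {S : ShortComplex (DRing.Cx A)} (hS : S.ShortExact) (h : S.X₁.Acyclic) :
    QuasiIso S.g := by
  rw [quasiIso_iff]
  intro n
  rw [quasiIsoAt_iff_isIso_homologyMap]
  have hz : ∀ i, IsZero (S.X₁.homology i) := KFlat.isZero_homology_iff.2 h
  have : Mono (HomologicalComplex.homologyMap S.g n) := (hS.homology_exact₂ n).mono_g ((hz n).eq_of_src _ _)
  have : Epi (HomologicalComplex.homologyMap S.g n) :=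
    (hS.homology_exact₃ n (n + 1) (by simp)).epi_f ((hz _).eq_of_tgt _ _)
  exact isIso_of_mono_of_epi _

theorem flat_extCech : ∀ (l : List A) (j : ℤ), Module.Flat A ((DerCA.extCech (ModuleCat.of A A) l).X j) := by
  intro l
  induction l with
  | nil =>
    intro j
    by_cases hj : j = 0
    · subst hj
      exact Module.Flat.of_linearEquiv (R := A) (M := A)
        (HomologicalComplex.singleObjXSelf (ComplexShape.up ℤ) 0 (ModuleCat.of A A)).toLinearEquiv
    · haveI : Subsingleton ((DerCA.extCech (ModuleCat.of A A) []).X j) := ModuleCat.subsingleton_of_isZero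
        (HomologicalComplex.isZero_single_obj_X (ComplexShape.up ℤ) 0 (ModuleCat.of A A) j hj)
      haveI : Module.Free A ((DerCA.extCech (ModuleCat.of A A) []).X j) := Module.Free.of_subsingleton A _
      exact Module.Flat.of_free
  | cons f l ih =>
    intro j
    let M := (DerCA.extCech (ModuleCat.of A A) l).X (j - 1)
    haveI := ih (j - 1)
    haveI := ih j
    haveI : Module.Flat A (Localization (Submonoid.powers f)) := IsLocalization.flat _ (Submonoid.powers f)
    haveI hL : Module.Flat A (LocalizedModule (Submonoid.powers f) M) :=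
      Module.Flat.of_linearEquiv ((IsLocalizedModule.isBaseChange (Submonoid.powers f)
        (Localization (Submonoid.powers f)) (LocalizedModule.mkLinearMap (Submonoid.powers f) M)).equiv.restrictScalars A).symm
    haveI := DComplete.flat_prod (A := A) ((DerCA.extCech (ModuleCat.of A A) l).X j)
      (LocalizedModule (Submonoid.powers f) M)
    exact Module.Flat.of_linearEquiv (R := A)
      (M := (DerCA.extCech (ModuleCat.of A A) l).X j × LocalizedModule (Submonoid.powers f) M)
      (DerCA.mappingCoconeXIso (DerCA.locCxUnit (Submonoid.powers f) (DerCA.extCech (ModuleCat.of A A) l)) j ≪≫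
        ModuleCat.biprodIsoProd _ _).toLinearEquiv

theorem isC_homCx {g : A} (L I : DRing.Cx A) (hfl : ∀ j, Module.Flat A (L.X j)) (hL : Tors g L)
    [I.IsKInjective] [∀ j, Injective (I.X j)] :
    IsC g (DerivedCategory.Q.obj (LocCohLib.homCx L I)) := by
  haveI : Mono (teleP g) := (ModuleCat.mono_iff_injective _).2 (teleP_injective g)
  haveI : Epi (awayP g) := (ModuleCat.epi_iff_surjective _).2 (awayP_surjective g)
  have hS : (ShortComplex.mk (teleP g) (awayP g)
      (ModuleCat.hom_ext (LinearMap.ext fun p => (tele_exact g).apply_apply_eq_zero p))).ShortExact :=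
    { exact := (ShortComplex.ShortExact.moduleCat_exact_iff_function_exact _).2 (tele_exact g) }
  have hT := shortExact_tcx hS L hfl
  have hH := LocCohLib.homShortPre_shortExact hT I
  haveI : Module.Flat A (ModuleCat.of A (Localization.Away g)) :=
    IsLocalization.flat (Localization.Away g) (Submonoid.powers g)
  haveI := (Module.Flat.iff_preservesFiniteLimits_tensorLeft (ModuleCat.of A (Localization.Away g))).1 inferInstance
  haveI := (ihom.adjunction (ModuleCat.of A (Localization.Away g))).leftAdjoint_preservesColimits.{0, 0}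
  haveI : PreservesFiniteLimits ((tensoringLeft (ModuleCat.{u} A)).obj (ModuleCat.of A (Localization.Away g))) :=
    inferInstanceAs (PreservesFiniteLimits (tensorLeft (ModuleCat.of A (Localization.Away g))))
  haveI : PreservesFiniteColimits ((tensoringLeft (ModuleCat.{u} A)).obj (ModuleCat.of A (Localization.Away g))) :=
    inferInstanceAs (PreservesFiniteColimits (tensorLeft (ModuleCat.of A (Localization.Away g))))
  have hac : ((tcx (ModuleCat.of A (Localization.Away g))).obj L).Acyclic := by
    refine acyclic_map_of _ L fun n => @ModuleCat.isZero_of_subsingleton _ _ _ (subsingleton_of_forall_eq 0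
      fun (z : TensorProduct A (Localization.Away g) (L.homology n)) => ?_)
    show z = 0
    induction z using TensorProduct.induction_on with
    | zero => rfl
    | add a b ha hb => rw [ha, hb, add_zero]
    | tmul z x =>
      obtain ⟨k, hk⟩ := hL n x
      obtain ⟨w, hw⟩ := ((IsLocalization.Away.algebraMap_isUnit (S := Localization.Away g) g).pow k).dvd (a := z)
      rw [hw, ← map_pow, ← Algebra.smul_def, ← TensorProduct.smul_tmul', ← TensorProduct.tmul_smul, hk,
        TensorProduct.tmul_zero]
  have hq : QuasiIso (LocCohLib.homCxPre (tcxMap (teleP g) L) I) := quasiIso_g_of_acyclic hH fun n =>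
    (HomologicalComplex.exactAt_iff_isZero_homology _ n).2 (@ModuleCat.isZero_of_subsingleton _ _ _
      (LocCohLib.subsingleton_homology_of_isKInjective hac n))
  let ι : ℕ → (L ⟶ (tcx (ModuleCat.of A (Polynomial A))).obj L) := fun k =>
    { f := fun j => ModuleCat.ofHom (Y := TensorProduct A (Polynomial A) (L.X j))
        (TensorProduct.mk A (Polynomial A) (L.X j) (Polynomial.monomial k 1))
      comm' := fun i j _ => rfl }
  refine (isC_Q_iff g _).2 ((quasiIso_iff_tele (fun k => LocCohLib.homCxPre (ι k) I) (fun i => ⟨?_, ?_⟩) g _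
    fun k => ?_).1 hq)
  · intro z z' hzz
    refine Cochain.ext _ _ fun p q hpq => ModuleCat.hom_ext (TensorProduct.ext' fun
      (P : Polynomial A) (x : L.X p) => ?_)
    induction P using Polynomial.induction_on' with
    | add a b ha hb => rw [TensorProduct.add_tmul, map_add, map_add, ha, hb]
    | monomial m a =>
      have h : (Polynomial.monomial m a : Polynomial A) = a • Polynomial.monomial m 1 := by
        rw [Polynomial.smul_monomial, smul_eq_mul, mul_one]
      rw [h, ← TensorProduct.smul_tmul', map_smul, map_smul]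
      refine congrArg (a • ·) ?_
      have h1 := ConcreteCategory.congr_hom ((LocCohLib.homCxPre_apply (ι m) I i z p q hpq).symm.trans
        ((congrArg (fun w : Cochain L I i => w.v p q hpq) (congrFun hzz m)).trans
          (LocCohLib.homCxPre_apply (ι m) I i z' p q hpq))) x
      exact h1
  · intro m
    refine ⟨Cochain.mk fun p q hpq => ModuleCat.ofHom (X := TensorProduct A (Polynomial A) (L.X p))
      (TensorProduct.lift ((Polynomial.basisMonomials A).constr A fun k =>
        ((m k : Cochain L I i).v p q hpq).hom)), funext fun k => Cochain.ext _ _ fun p q hpq => ?_⟩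
    refine (LocCohLib.homCxPre_apply (ι k) I i _ p q hpq).trans (ModuleCat.hom_ext (LinearMap.ext fun x => ?_))
    show TensorProduct.lift ((Polynomial.basisMonomials A).constr A fun k =>
      ((m k : Cochain L I i).v p q hpq).hom) (Polynomial.monomial k 1 ⊗ₜ[A] x) = _
    have hc := (Polynomial.basisMonomials A).constr_basis A
      (fun k => ((m k : Cochain L I i).v p q hpq).hom) k
    rw [Polynomial.coe_basisMonomials] at hc
    rw [TensorProduct.lift.tmul, hc]
  · refine HomologicalComplex.hom_ext _ _ fun i => ModuleCat.hom_ext (LinearMap.ext fun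
      (z : Cochain ((tcx (ModuleCat.of A (Polynomial A))).obj L) I i) => Cochain.ext _ _ fun p q hpq => ?_)
    refine ((LocCohLib.homCxPre_apply (ι k) I i _ p q hpq).trans
      (congrArg ((ι k).f p ≫ ·) (LocCohLib.homCxPre_apply (tcxMap (teleP g) L) I i z p q hpq))).trans ?_
    show _ = ((LocCohLib.homCxPre (ι k) I).f i z - g • (LocCohLib.homCxPre (ι (k + 1)) I).f i z : Cochain L I i).v p q hpq
    refine Eq.trans ?_ (sub_smul_v ((LocCohLib.homCxPre (ι k) I).f i z : Cochain L I i)
      ((LocCohLib.homCxPre (ι (k + 1)) I).f i z : Cochain L I i) g p q hpq).symm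
    refine Eq.trans ?_ (congrArg₂ (fun a b => a - g • b) (LocCohLib.homCxPre_apply (ι k) I i z p q hpq)
      (LocCohLib.homCxPre_apply (ι (k + 1)) I i z p q hpq)).symm
    refine ModuleCat.hom_ext (LinearMap.ext fun (x : L.X p) => ?_)
    show (z.v p q hpq).hom ((((1 - Polynomial.C g * Polynomial.X) * Polynomial.monomial k 1 : Polynomial A)) ⊗ₜ[A] x) =
      (z.v p q hpq).hom (Polynomial.monomial k 1 ⊗ₜ[A] x) -
        g • (z.v p q hpq).hom (Polynomial.monomial (k + 1) 1 ⊗ₜ[A] x)
    rw [sub_mul, one_mul, mul_assoc, Polynomial.X_mul_monomial, ← Polynomial.smul_eq_C_mul,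
      TensorProduct.sub_tmul, ← TensorProduct.smul_tmul']
    exact (map_sub (z.v p q hpq).hom _ _).trans (congrArg (_ - ·) (map_smul (z.v p q hpq).hom g _))

/-- Precomposition out of a short exact sequence with `f` invertible on the last term. -/
theorem bijective_of_shortExact {f : A} {S : ShortComplex (DRing.Cx A)} (hS : S.ShortExact)
    [IsIso (f • 𝟙 (DerivedCategory.Q.obj S.X₃))] {E : Dual.D A} (hE : IsC f E) :
    Function.Bijective fun α : DerivedCategory.Q.obj S.X₂ ⟶ E => DerivedCategory.Q.map S.f ≫ α := by
  have hd := DerivedCategory.triangleOfSES_distinguished hS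
  set T := DerivedCategory.triangleOfSES hS
  let Y : Dual.D A := DerivedCategory.Q.obj S.X₃
  have h0 : ∀ a : Y ⟶ E, a = 0 := fun a => (subsingleton_hom_of_isIso_smul (f := f) hE).elim a 0
  have h1 : ∀ a : Y⟦(-1 : ℤ)⟧ ⟶ E, a = 0 := fun a =>
    ((subsingleton_shift_neg_iff Y E 1).2 (subsingleton_hom_of_isIso_smul (f := f) (hE.shift 1))).elim a 0
  refine ⟨fun a b hab => sub_eq_zero.1 ?_, fun b => ?_⟩
  · obtain ⟨γ, hγ⟩ := T.yoneda_exact₂ hd (a - b) (by
      exact (Preadditive.comp_sub _ _ _).trans (sub_eq_zero.2 hab))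
    exact hγ.trans ((congrArg (T.mor₂ ≫ ·) (h0 γ)).trans comp_zero)
  · obtain ⟨a, ha⟩ := T.invRotate.yoneda_exact₂ (inv_rot_of_distTriang _ hd) b (h1 _)
    exact ⟨a, ha.symm⟩

/-- `Hom(A, M) ≅ M`. -/
noncomputable def homSelfIso (M : ModuleCat.{u} A) : (ihom (ModuleCat.of A A)).obj M ≅ M :=
  LinearEquiv.toModuleIso (X₁ := (ModuleCat.of A A ⟶ M))
    { toFun := fun φ => φ.hom (1 : A)
      map_add' := fun _ _ => rfl
      map_smul' := fun _ _ => rfl
      invFun := fun m => ModuleCat.ofHom (LinearMap.toSpanSingleton A M m)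
      left_inv := fun φ => ModuleCat.hom_ext (LinearMap.ext_ring (by simp))
      right_inv := fun m => by simp }

/-- `Hom(Č, I)` is the completion of `I`. -/
theorem exists_cech (I : DRing.Cx A) [I.IsKInjective] [∀ j, Injective (I.X j)] : ∀ (l : List A),
    ∃ η : DerivedCategory.Q.obj I ⟶
        DerivedCategory.Q.obj ((DRing.homCxFunctor (DerCA.extCech (ModuleCat.of A A) l)).obj I),
      ∀ E, (∀ f ∈ l, IsC f E) → Function.Bijective fun α => η ≫ (α : _ ⟶ E) := by
  intro l
  induction l with
  | nil =>
    let e : (DRing.homCxFunctor (DerCA.extCech (ModuleCat.of A A) [])).obj I ≅ I :=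
      homCxSglIso (ModuleCat.of A A) I ≪≫
        HomologicalComplex.Hom.isoOfComponents (fun i => homSelfIso (I.X i)) (fun i j _ => rfl)
    exact ⟨DerivedCategory.Q.map e.inv, fun E _ => bij_iso _⟩
  | cons f l ih =>
    obtain ⟨η, hη⟩ := ih
    let K := DerCA.extCech (ModuleCat.of A A) l
    let φ := DerCA.locCxUnit (Submonoid.powers f) K
    let S := mappingCone.triangleRotateShortComplex φ
    have hS : S.ShortExact := KFlat.shortExact_of_splitting S (mappingCone.triangleRotateShortComplexSplitting φ)
    let S' := S.map (CategoryTheory.shiftFunctor (DRing.Cx A) (-1 : ℤ))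
    have hS' : S'.ShortExact := hS.map_of_exact _
    have hH := LocCohLib.homShortPre_shortExact hS' I
    haveI : IsIso (f • 𝟙 (DerivedCategory.Q.obj (LocCohLib.homShortPre S' I).X₃)) := by
      haveI : ∀ n, IsIso ((f • 𝟙 ((LocCohLib.homShortPre S' I).X₃)).f n) := fun n => by
        refine (ConcreteCategory.isIso_iff_bijective _).2 ?_
        have hb : ∀ p, Function.Bijective fun x : (S'.X₁).X p => f • x := fun p =>
          (Module.End.isUnit_iff _).1 (IsLocalizedModule.map_units (S := Submonoid.powers f)
            (LocalizedModule.mkLinearMap (Submonoid.powers f) (K.X (p + (-1)))) (⟨f, Submonoid.mem_powers f⟩ : Submonoid.powers f))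
        haveI : ∀ p, IsIso (f • 𝟙 ((S'.X₁).X p)) := fun p => (ConcreteCategory.isIso_iff_bijective _).2 (hb p)
        refine ⟨fun (z w : Cochain S'.X₁ I n) hzw => Cochain.ext _ _ fun p q hpq => ?_,
          fun (z : Cochain S'.X₁ I n) => ⟨Cochain.mk fun p q hpq => inv (f • 𝟙 (S'.X₁.X p)) ≫ z.v p q hpq,
            Cochain.ext _ _ fun p q hpq => ?_⟩⟩
        · rw [← cancel_epi (f • 𝟙 (S'.X₁.X p))]
          have h := congrArg (fun t : Cochain S'.X₁ I n => t.v p q hpq) hzw
          simp only [Linear.smul_comp, Category.id_comp]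
          exact h
        · show f • (inv (f • 𝟙 (S'.X₁.X p)) ≫ z.v p q hpq) = z.v p q hpq
          exact (show f • (inv (f • 𝟙 (S'.X₁.X p)) ≫ z.v p q hpq) =
              (f • 𝟙 (S'.X₁.X p)) ≫ inv (f • 𝟙 (S'.X₁.X p)) ≫ z.v p q hpq by
            rw [Linear.smul_comp, Category.id_comp]).trans (IsIso.hom_inv_id_assoc _ _)
      haveI : IsIso (f • 𝟙 ((LocCohLib.homShortPre S' I).X₃)) := HomologicalComplex.Hom.isIso_of_components _
      rw [← CategoryTheory.Functor.map_id, ← Functor.map_smul]
      infer_instance
    let e₃ : S'.X₃ ≅ K := (shiftFunctorCompIsoId (DRing.Cx A) (1 : ℤ) (-1) (by lia)).app K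
    let e : (DRing.homCxFunctor K).obj I ≅ LocCohLib.homCx S'.X₃ I :=
      { hom := LocCohLib.homCxPre e₃.hom I
        inv := LocCohLib.homCxPre e₃.inv I
        hom_inv_id := by
          refine HomologicalComplex.hom_ext _ _ fun n => ModuleCat.hom_ext (LinearMap.ext fun (z : Cochain K I n) =>
            Cochain.ext _ _ fun p q hpq => ?_)
          refine ((LocCohLib.homCxPre_apply e₃.inv I n _ p q hpq).trans
            (congrArg (e₃.inv.f p ≫ ·) (LocCohLib.homCxPre_apply e₃.hom I n z p q hpq))).trans ?_
          rw [← Category.assoc, ← HomologicalComplex.comp_f, e₃.inv_hom_id, HomologicalComplex.id_f,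
            Category.id_comp]
          rfl
        inv_hom_id := by
          refine HomologicalComplex.hom_ext _ _ fun n => ModuleCat.hom_ext (LinearMap.ext fun (z : Cochain S'.X₃ I n) =>
            Cochain.ext _ _ fun p q hpq => ?_)
          refine ((LocCohLib.homCxPre_apply e₃.hom I n _ p q hpq).trans
            (congrArg (e₃.hom.f p ≫ ·) (LocCohLib.homCxPre_apply e₃.inv I n z p q hpq))).trans ?_
          rw [← Category.assoc, ← HomologicalComplex.comp_f, e₃.hom_inv_id, HomologicalComplex.id_f,
            Category.id_comp]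
          rfl }
    refine ⟨η ≫ DerivedCategory.Q.map e.hom ≫ DerivedCategory.Q.map (LocCohLib.homShortPre S' I).f,
      fun E hE => ?_⟩
    have h1 := hη E fun g hg => hE g (List.mem_cons_of_mem _ hg)
    have h2 := bijective_of_shortExact hH (hE f List.mem_cons_self)
    have h3 : Function.Bijective fun α : _ ⟶ E => DerivedCategory.Q.map e.hom ≫ α := @bij_iso _ _ _ _ E _ (Iso.isIso_hom (DerivedCategory.Q.mapIso e))
    exact bij_congr ((h1.comp h3).comp h2) fun α => by simp only [Function.comp_apply, Category.assoc]; rfl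

/-- Two universal maps to complete objects have isomorphic targets. -/
theorem nonempty_iso_completion (I : Ideal A) [DRing.HasDerivedCompletion I] {L C : Dual.D A} (η : L ⟶ C)
    (hC : DRing.IsDerivedComplete I C)
    (hU : ∀ E, DRing.IsDerivedComplete I E → Function.Bijective fun α : C ⟶ E => η ≫ α) :
    Nonempty (((DRing.derivedCompletion I).obj L).obj ≅ C) := by
  obtain ⟨σ, hσ⟩ := (hU _ ((DRing.derivedCompletion I).obj L).property).2 (DRing.toDerivedCompletion I L)
  have hadj : ∀ X : DRing.DComp I, Function.Bijective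
      (fun α : ((DRing.derivedCompletion I).obj L).obj ⟶ X.obj => DRing.toDerivedCompletion I L ≫ α) := fun X => by
    have h := ((DRing.derivedCompletionAdj I).homEquiv L X).bijective.comp
      ((ObjectProperty.fullyFaithfulι (DRing.IsDerivedComplete I)).homEquiv
        (X := (DRing.derivedCompletion I).obj L) (Y := X)).symm.bijective
    convert h using 1
    funext α
    exact (((DRing.derivedCompletionAdj I).homEquiv_unit L X ((ObjectProperty.fullyFaithfulι
      (DRing.IsDerivedComplete I)).homEquiv.symm α)).trans (congrArg (_ ≫ ·)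
        ((ObjectProperty.fullyFaithfulι (DRing.IsDerivedComplete I)).map_preimage α))).symm
  obtain ⟨τ, hτ⟩ := (hadj ⟨C, hC⟩).2 η
  simp only at hσ hτ
  exact ⟨⟨τ, σ, (hadj _).1 (by simp only; rw [reassoc_of% hτ, hσ, Category.comp_id]),
    (hU C hC).1 (by simp only; rw [reassoc_of% hσ, hτ, Category.comp_id])⟩⟩

theorem nonempty_completion_iso_RHomCx (fs : List A) (I : Ideal A) (hI : Ideal.span {x : A | x ∈ fs} = I)
    [DRing.HasDerivedCompletion I] [DRing.HasRHomCx (DerCA.extCech (ModuleCat.of A A) fs)] (K : Dual.D A) :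
    Nonempty (((DRing.derivedCompletion I).obj K).obj ≅
      (DRing.RHomCx (DerCA.extCech (ModuleCat.of A A) fs)).obj K) := by
  obtain ⟨J, s, hJ, hs, -, hinj⟩ :=
    TriH.exists_kInjective_resolution ((DerivedCategory.Q (C := ModuleCat.{u} A)).objPreimage K)
  haveI : IsIso (DerivedCategory.Q.map s) := (DerivedCategory.isIso_Q_map_iff_quasiIso _ _).2 hs
  let eK : DerivedCategory.Q.obj J ≅ K :=
    (asIso (DerivedCategory.Q.map s)).symm ≪≫ DerivedCategory.Q.objObjPreimageIso K
  obtain ⟨η, hη⟩ := exists_cech J fs
  haveI := isIso_unit (DerCA.extCech (ModuleCat.of A A) fs) J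
  have hC : DRing.IsDerivedComplete I
      (DerivedCategory.Q.obj ((DRing.homCxFunctor (DerCA.extCech (ModuleCat.of A A) fs)).obj J)) :=
    hI ▸ isC_of_span _ fun g hg => isC_homCx (DerCA.extCech (ModuleCat.of A A) fs) J (flat_extCech fs)
      (tors_extCech _ fs g hg)
  obtain ⟨e⟩ := nonempty_iso_completion I (eK.inv ≫ η) hC fun E hE => by
    have h := hη E fun g hg => hE g (hI ▸ Ideal.subset_span hg)
    have h' : Function.Bijective fun α : DerivedCategory.Q.obj J ⟶ E => eK.inv ≫ α := bij_iso _
    exact bij_congr (h'.comp h) fun α => by simp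
  exact ⟨e ≪≫ asIso ((unit (DerCA.extCech (ModuleCat.of A A) fs)).app J) ≪≫
    (DRing.RHomCx (DerCA.extCech (ModuleCat.of A A) fs)).mapIso eK⟩

end Groth.Agent.RHomCx
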