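import Groth.Agent.RHomCx.Basic

/-!
# Derived completion commutes with the derived Hom out of a complex
-/

set_option autoImplicit false
set_option linter.style.haveILetI false

open CategoryTheory CategoryTheory.Limits CategoryTheory.Pretriangulated

universe u

attribute [local instance] HasDerivedCategory.standard

namespace Groth.Agent.RHomCx

open CochainComplex CochainComplex.HomComplex DComplete LocCohLib

variable {A : Type u} [CommRing A]

theorem isC_of_iso {f : A} {X Y : Dual.D A} (e : X ≅ Y) (h : IsC f X) : IsC f Y := fun n =>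
  (((Iso.refl _).homCongr ((CategoryTheory.shiftFunctor (Dual.D A) n).mapIso e)).subsingleton_congr).1 (h n)

theorem isC_Q_iff (f : A) (U : DRing.Cx A) :
    IsC f (DerivedCategory.Q.obj U) ↔ ∀ n : ℤ, Tele (smulEnd (U.homology n) f) := by
  refine (isC_iff f _).trans (forall_congr' fun n => ?_)
  let i := ((DerivedCategory.homologyFunctorFactors (ModuleCat.{u} A) n).app U).toLinearEquiv
  exact ⟨fun h => tele_of_bijective h i.toAddEquiv fun x => map_smul i f x,
    fun h => tele_of_bijective h i.symm.toAddEquiv fun x => map_smul i.symm f x⟩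

theorem homologyMap_smul_id (U : DRing.Cx A) (f : A) (n : ℤ) (x : U.homology n) :
    HomologicalComplex.homologyMap (f • 𝟙 U) n x = f • x := by
  obtain ⟨z, rfl⟩ := scCls_surjective (U.sc n) x
  exact (scCls_map ((HomologicalComplex.shortComplexFunctor _ _ n).map (f • 𝟙 U)) z (f • z) rfl).trans
    (map_smul (scCls (U.sc n)) f z)

theorem eq_zero_of_bijective {M : Type u} [AddCommGroup M] [Module A M] {f : A}
    (h : Tele (smulEnd M f)) (hb : Function.Bijective fun x : M => f • x) (x : M) : x = 0 := by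
  let e := Equiv.ofBijective _ hb
  exact congrFun (h.eq_zero (fun k => Nat.rec x (fun _ y => e.symm y) k)
    fun k => (e.apply_symm_apply _).symm) 0

theorem isZero_of_isC {f : A} {C : Dual.D A} (h : IsC f C) [IsIso (f • 𝟙 C)] : IsZero C := by
  obtain ⟨P, ⟨e⟩⟩ : ∃ P : DRing.Cx A, Nonempty (DerivedCategory.Q.obj P ≅ C) :=
    ⟨_, ⟨(DerivedCategory.Q (C := ModuleCat.{u} A)).objObjPreimageIso C⟩⟩
  haveI h1 : IsIso (DerivedCategory.Q.map (f • 𝟙 P)) := by
    have : DerivedCategory.Q.map (f • 𝟙 P) = e.hom ≫ (f • 𝟙 C) ≫ e.inv := by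
      rw [Functor.map_smul, CategoryTheory.Functor.map_id, Linear.smul_comp, Category.id_comp,
        Linear.comp_smul, e.hom_inv_id]
    rw [this]
    infer_instance
  have hq := (DerivedCategory.isIso_Q_map_iff_quasiIso _ _).1 h1
  refine IsZero.of_iso (isZero_of_forall_isZero _ fun n => ?_) e.symm
  refine IsZero.of_iso ?_ ((DerivedCategory.homologyFunctorFactors (ModuleCat.{u} A) n).app P)
  refine @ModuleCat.isZero_of_subsingleton _ _ _ (subsingleton_of_forall_eq 0 fun x => ?_)
  refine eq_zero_of_bijective ((isC_Q_iff f P).1 (isC_of_iso e.symm h) n) ?_ x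
  haveI : IsIso (HomologicalComplex.homologyMap (f • 𝟙 P) n) := inferInstance
  have hb := ConcreteCategory.bijective_of_isIso (HomologicalComplex.homologyMap (f • 𝟙 P) n)
  exact (funext (homologyMap_smul_id P f n)).symm ▸ hb

theorem isIso_smul_restrict (f : A) (E : Dual.D (Localization.Away f)) :
    IsIso (f • 𝟙 ((DRing.restrictD (algebraMap A (Localization.Away f))).obj E)) := by
  let r := ModuleCat.restrictScalars.{u} (algebraMap A (Localization.Away f))
  let P := (DerivedCategory.Q (C := ModuleCat.{u} (Localization.Away f))).objPreimage E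
  let rP := (r.mapHomologicalComplex (ComplexShape.up ℤ)).obj P
  let e : DerivedCategory.Q.obj rP ≅ (DRing.restrictD (algebraMap A (Localization.Away f))).obj E :=
    (r.mapDerivedCategoryFactors.app P).symm ≪≫
      (DRing.restrictD (algebraMap A (Localization.Away f))).mapIso (DerivedCategory.Q.objObjPreimageIso E)
  haveI : ∀ i, IsIso ((f • 𝟙 rP).f i) := fun i => (ConcreteCategory.isIso_iff_bijective _).2 <|
    (Module.End.isUnit_iff _).1
      ((IsLocalization.Away.algebraMap_isUnit f).map (algebraMap (Localization.Away f) (Module.End (Localization.Away f) (P.X i))))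
  haveI : IsIso (f • 𝟙 rP) := HomologicalComplex.Hom.isIso_of_components _
  have : f • 𝟙 ((DRing.restrictD (algebraMap A (Localization.Away f))).obj E) =
      e.inv ≫ DerivedCategory.Q.map (f • 𝟙 rP) ≫ e.hom := by
    rw [Functor.map_smul, CategoryTheory.Functor.map_id, Linear.smul_comp, Category.id_comp,
      Linear.comp_smul, e.inv_hom_id]
  rw [this]
  infer_instance

theorem subsingleton_hom_of_isIso_smul {f : A} {Y E : Dual.D A} [IsIso (f • 𝟙 Y)] (hE : IsC f E) :
    Subsingleton (Y ⟶ E) := by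
  obtain ⟨C, η, hC, -, -, R, adj, δ, hT⟩ := exists_step f Y
  let T := Triangle.mk (adj.counit.app Y) η δ
  let φ : T ⟶ T :=
    { hom₁ := f • 𝟙 _, hom₂ := f • 𝟙 _, hom₃ := f • 𝟙 _
      comm₁ := by simp [T]
      comm₂ := by simp [T]
      comm₃ := by simp [T] }
  haveI : IsIso (f • 𝟙 C) := (show IsIso φ.hom₃ from isIso₃_of_isIso₁₂ φ hT hT (isIso_smul_restrict f _) (show IsIso (f • 𝟙 Y) by assumption))
  haveI : IsIso (adj.counit.app Y) := (Triangle.isZero₃_iff_isIso₁ T hT).1 (@isZero_of_isC _ _ f C hC this)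
  exact ((asIso (adj.counit.app Y)).homCongr (Iso.refl E)).subsingleton_congr.1 ((away_iff f E).1 hE _)

/-- The product of countably many copies. -/
noncomputable def seqCx (U : DRing.Cx A) : DRing.Cx A where
  X i := ModuleCat.of A (ℕ → U.X i)
  d i j := ModuleCat.ofHom (LinearMap.pi fun k => (U.d i j).hom ∘ₗ LinearMap.proj k)
  shape i j h := ModuleCat.hom_ext (LinearMap.ext fun x => funext fun k =>
    ConcreteCategory.congr_hom (U.shape i j h) (x k))
  d_comp_d' i j l _ _ := ModuleCat.hom_ext (LinearMap.ext fun x => funext fun k =>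
    ConcreteCategory.congr_hom (U.d_comp_d i j l) (x k))

/-- Projections. -/
noncomputable def seqProj (U : DRing.Cx A) (k : ℕ) : seqCx U ⟶ U where
  f i := ModuleCat.ofHom (LinearMap.proj k)
  comm' _ _ _ := rfl

/-- The telescope map. -/
noncomputable def seqTele (U : DRing.Cx A) (f : A) : seqCx U ⟶ seqCx U where
  f i := ModuleCat.ofHom
    (LinearMap.pi fun k => LinearMap.proj k - f • LinearMap.proj (k + 1))
  comm' i j _ := ModuleCat.hom_ext (LinearMap.ext fun (x : ℕ → U.X i) => funext fun k => by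
    change (U.d i j).hom (x k - f • x (k + 1)) = (U.d i j).hom (x k) - f • (U.d i j).hom (x (k + 1)) at *
    rw [map_sub, map_smul]) |> fun h => h

theorem seqTele_proj (U : DRing.Cx A) (f : A) (k : ℕ) :
    seqTele U f ≫ seqProj U k = seqProj U k - f • seqProj U (k + 1) :=
  HomologicalComplex.hom_ext _ _ fun _ => rfl

theorem isKInjective_seqCx (U : DRing.Cx A) [U.IsKInjective] : (seqCx U).IsKInjective where
  nonempty_homotopy_zero {X} g hX := by
    have h := fun k => IsKInjective.homotopyZero (g ≫ seqProj U k) hX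
    refine ⟨{ hom := fun i j => ModuleCat.ofHom (LinearMap.pi fun k => ((h k).hom i j).hom)
              zero := fun i j hij => ?_
              comm := fun i => ?_ }⟩
    · refine ModuleCat.hom_ext (LinearMap.ext fun x => funext fun k => ?_)
      exact ConcreteCategory.congr_hom ((h k).zero i j hij) x
    · rw [dNext_eq _ (show (ComplexShape.up ℤ).Rel i (i + 1) from rfl),
        prevD_eq _ (show (ComplexShape.up ℤ).Rel (i - 1) i from by simp)]
      refine ModuleCat.hom_ext (LinearMap.ext fun x => funext fun k => ?_)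
      have := (h k).comm i
      rw [dNext_eq _ (show (ComplexShape.up ℤ).Rel i (i + 1) from rfl),
        prevD_eq _ (show (ComplexShape.up ℤ).Rel (i - 1) i from by simp)] at this
      exact ConcreteCategory.congr_hom this x

theorem quasiIso_iff_tele {V U : DRing.Cx A} (p : ℕ → (V ⟶ U))
    (hp : ∀ i : ℤ, Function.Bijective fun (x : V.X i) k => (p k).f i x) (f : A) (τ : V ⟶ V)
    (hτ : ∀ k, τ ≫ p k = p k - f • p (k + 1)) :
    QuasiIso τ ↔ ∀ n : ℤ, Tele (smulEnd (U.homology n) f) := by
  rw [quasiIso_iff]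
  refine forall_congr' fun n => ?_
  rw [quasiIsoAt_iff_isIso_homologyMap, ConcreteCategory.isIso_iff_bijective]
  let Φ : V.homology n → ℕ → U.homology n := fun x k => HomologicalComplex.homologyMap (p k) n x
  have hd : ∀ i j (x : V.X i) (k : ℕ), (p k).f j (V.d i j x) = U.d i j ((p k).f i x) := fun i j x k =>
    (ConcreteCategory.congr_hom ((p k).comm i j) x).symm
  let F := fun k => (HomologicalComplex.shortComplexFunctor (ModuleCat.{u} A) (ComplexShape.up ℤ) n).map (p k)
  have hΦ : Function.Bijective Φ := by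
    refine ⟨fun x y hxy => sub_eq_zero.1 ?_, fun m => ?_⟩
    · obtain ⟨z, hz⟩ := scCls_surjective (V.sc n) (x - y)
      refine hz.symm.trans ((scCls_eq_zero (S := V.sc n) z).2 ?_)
      have h1 : ∀ k, ∃ b, (U.sc n).f b = (p k).f n z.1 := fun k => by
        have hk : (U.sc n).g ((p k).f n z.1) = 0 :=
          ((hd n ((ComplexShape.up ℤ).next n) z.1 k).symm.trans (congrArg ((p k).f _) z.2)).trans (map_zero _)
        refine (scCls_eq_zero (S := U.sc n) ⟨(p k).f n z.1, hk⟩).1 ?_
        refine (scCls_map (F k) z _ rfl).symm.trans ?_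
        rw [hz]
        exact (map_sub _ x y).trans (sub_eq_zero.2 (congrFun hxy k))
      choose b hb using h1
      obtain ⟨c, hc⟩ := (hp ((ComplexShape.up ℤ).prev n)).2 b
      refine ⟨c, (hp n).1 (funext fun k => ?_)⟩
      exact (hd _ n c k).trans ((congrArg _ (congrFun hc k)).trans (hb k))
    · choose z hz using fun k => scCls_surjective (U.sc n) (m k)
      obtain ⟨c, hc⟩ := (hp n).2 fun k => (z k).1
      have hk : (V.sc n).g c = 0 := (hp _).1 (funext fun k =>
        ((hd n ((ComplexShape.up ℤ).next n) c k).trans ((congrArg _ (congrFun hc k)).trans (z k).2)).trans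
          (map_zero ((p k).f ((ComplexShape.up ℤ).next n)).hom).symm)
      let w : LinearMap.ker (V.sc n).g.hom := ⟨c, hk⟩
      exact ⟨scCls (V.sc n) w, funext fun k =>
        (scCls_map (F k) w (z k) (congrFun hc k)).trans (hz k)⟩
  have hcomm : Φ ∘ HomologicalComplex.homologyMap τ n = teleMap (smulEnd (U.homology n) f) ∘ Φ := by
    funext x k
    refine (ConcreteCategory.congr_hom (HomologicalComplex.homologyMap_comp τ (p k) n) x).symm.trans ?_
    rw [hτ, HomologicalComplex.homologyMap_sub]
    refine congrArg (HomologicalComplex.homologyMap (p k) n x - ·) ?_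
    have h2 : f • p (k + 1) = p (k + 1) ≫ (f • 𝟙 U) := by
      rw [Linear.comp_smul, Category.comp_id]
    rw [h2, HomologicalComplex.homologyMap_comp]
    exact homologyMap_smul_id U f n _
  exact (Function.Bijective.of_comp_iff' hΦ _).symm.trans
    (hcomm ▸ Function.Bijective.of_comp_iff _ hΦ)

variable (K : DRing.Cx A) [DRing.HasRHomCx K]

/-- `RHom(K, -)` preserves completeness. -/
theorem isC_obj {f : A} {X : Dual.D A} (h : IsC f X) : IsC f ((DRing.RHomCx K).obj X) := by
  obtain ⟨I, hI, ⟨e⟩⟩ := exists_rep X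
  haveI := isIso_unit K I
  refine isC_of_iso (asIso ((unit K).app I) ≪≫ (DRing.RHomCx K).mapIso e) ?_
  have hq : QuasiIso (seqTele I f) := (quasiIso_iff_tele (seqProj I)
    (fun i => ⟨fun x y hxy => hxy, fun y => ⟨y, rfl⟩⟩) f _ (seqTele_proj I f)).2
      ((isC_Q_iff f I).1 (isC_of_iso e.symm h))
  haveI := isKInjective_seqCx I
  haveI : IsIso (DerivedCategory.Q.map (seqTele I f)) := (DerivedCategory.isIso_Q_map_iff_quasiIso _ _).2 hq
  have hG : QuasiIso ((DRing.homCxFunctor K).map (seqTele I f)) :=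
    (DerivedCategory.isIso_Q_map_iff_quasiIso _ _).1 (isIso_map_of_good (F := DRing.homCxQ K)
      (good K (seqCx I)) (good K (seqCx I)) (seqTele I f))
  refine (isC_Q_iff f _).2 ((quasiIso_iff_tele (fun k => (DRing.homCxFunctor K).map (seqProj I k))
    (fun i => ⟨fun (x y : Cochain K (seqCx I) i) hxy => ?_, fun m => ?_⟩) f _ fun k => ?_).1 hG)
  · refine Cochain.ext _ _ fun p q hpq => ModuleCat.hom_ext (LinearMap.ext fun v => funext fun k => ?_)
    have h1 := congrArg (fun w : Cochain K I i => (w.v p q hpq).hom v) (congrFun hxy k)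
    change ((x.comp (Cochain.ofHom (seqProj I k)) (add_zero i)).v p q hpq).hom v =
      ((y.comp (Cochain.ofHom (seqProj I k)) (add_zero i)).v p q hpq).hom v at h1
    rw [Cochain.comp_zero_cochain_v, Cochain.comp_zero_cochain_v] at h1
    exact h1
  · refine ⟨Cochain.mk fun p q hpq => ModuleCat.ofHom (LinearMap.pi fun k => ((m k : Cochain K I i).v p q hpq).hom),
      funext fun k => ?_⟩
    refine Cochain.ext _ _ fun p q hpq => ?_
    change (Cochain.comp _ (Cochain.ofHom (seqProj I k)) (add_zero i)).v p q hpq = _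
    rw [Cochain.comp_zero_cochain_v, Cochain.mk_v, Cochain.ofHom_v]
    rfl
  · rw [← Functor.map_comp, seqTele_proj, Functor.map_sub]
    refine congrArg ((DRing.homCxFunctor K).map (seqProj I k) - ·) ?_
    have h2 : f • seqProj I (k + 1) = seqProj I (k + 1) ≫ (f • 𝟙 I) := by
      rw [Linear.comp_smul, Category.comp_id]
    rw [h2, Functor.map_comp, map_smul_id, Linear.comp_smul, Category.comp_id]

/-- One step of completion. -/
theorem bijective_step {f : A} {Z X C : Dual.D A} (ε : Z ⟶ X) (η : X ⟶ C) (δ : C ⟶ Z⟦(1 : ℤ)⟧)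
    (hT : Triangle.mk ε η δ ∈ distinguishedTriangles) [IsIso (f • 𝟙 Z)] {E : Dual.D A} (hE : IsC f E) :
    Function.Bijective fun α : (DRing.RHomCx K).obj C ⟶ E => (DRing.RHomCx K).map η ≫ α := by
  obtain ⟨J, hJ, ⟨eJ⟩⟩ := exists_rep Z
  obtain ⟨I, hI, ⟨eI⟩⟩ := exists_rep X
  obtain ⟨φ, hφ⟩ := (good K I).lift J (eJ.hom ≫ ε ≫ eI.inv)
  haveI : (mappingCone φ).IsKInjective := by
    rw [isKInjective_iff_rightOrthogonal]
    exact ObjectProperty.ext_of_isTriangulatedClosed₃ _ _
      (HomotopyCategory.mappingCone_triangleh_distinguished φ)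
      (IsKInjective.rightOrthogonal J) (IsKInjective.rightOrthogonal I)
  obtain ⟨e', h'1, h'2⟩ := exists_iso_of_arrow_iso _ (Triangle.mk ε η δ)
    (DerivedCategory.mappingCone_triangle_distinguished φ) hT
    (Arrow.isoMk eJ eI (by
      show eJ.hom ≫ ε = DerivedCategory.Q.map φ ≫ eI.hom
      simp [hφ]))
  let eC : DerivedCategory.Q.obj (mappingCone φ) ≅ C := Triangle.π₃.mapIso e'
  have hη : DerivedCategory.Q.map (mappingCone.inr φ) ≫ eC.hom = eI.hom ≫ η := by
    have := e'.hom.comm₂
    rw [h'2] at this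
    exact this
  haveI := isIso_unit K I
  haveI := isIso_unit K (mappingCone φ)
  refine bijective_arrow_iso (DerivedCategory.Q.map ((DRing.homCxFunctor K).map (mappingCone.inr φ))) _
    (asIso ((unit K).app I) ≪≫ (DRing.RHomCx K).mapIso eI)
    (asIso ((unit K).app (mappingCone φ)) ≪≫ (DRing.RHomCx K).mapIso eC) ?_ ?_
  · have hn : DerivedCategory.Q.map ((DRing.homCxFunctor K).map (mappingCone.inr φ)) ≫ (unit K).app _ =
        (unit K).app I ≫ (DRing.RHomCx K).map (DerivedCategory.Q.map (mappingCone.inr φ)) :=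
      (unit K).naturality _
    simp only [Iso.trans_hom, asIso_hom, Functor.mapIso_hom, Category.assoc]
    rw [reassoc_of% hn]
    refine congrArg ((unit K).app I ≫ ·) ?_
    rw [← Functor.map_comp, ← Functor.map_comp, hη]
  let S := mappingCone.triangleRotateShortComplex φ
  have hS : (S.map (DRing.homCxFunctor K)).ShortExact :=
    KFlat.shortExact_of_splitting _ (splitting K S (mappingCone.triangleRotateShortComplexSplitting φ))
  have hd := DerivedCategory.triangleOfSES_distinguished hS
  set T := DerivedCategory.triangleOfSES hS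
  let Y : Dual.D A := DerivedCategory.Q.obj ((DRing.homCxFunctor K).obj (J⟦(1 : ℤ)⟧))
  haveI : IsIso (DerivedCategory.Q.map (f • 𝟙 (J⟦(1 : ℤ)⟧))) := by
    let e1 : DerivedCategory.Q.obj (J⟦(1 : ℤ)⟧) ≅ Z⟦(1 : ℤ)⟧ :=
      ((DerivedCategory.Q (C := ModuleCat.{u} A)).commShiftIso (1 : ℤ)).app J ≪≫
        (CategoryTheory.shiftFunctor (Dual.D A) (1 : ℤ)).mapIso eJ
    have : DerivedCategory.Q.map (f • 𝟙 (J⟦(1 : ℤ)⟧)) = e1.hom ≫ (f • 𝟙 Z)⟦(1 : ℤ)⟧' ≫ e1.inv := by
      rw [Functor.map_smul, CategoryTheory.Functor.map_id, Functor.map_smul, CategoryTheory.Functor.map_id,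
        Linear.smul_comp, Category.id_comp, Linear.comp_smul, e1.hom_inv_id]
    rw [this]
    infer_instance
  haveI : IsIso (f • 𝟙 Y) := by
    have h1 := isIso_map_of_good (good K (J⟦(1 : ℤ)⟧)) (good K (J⟦(1 : ℤ)⟧)) (f • 𝟙 (J⟦(1 : ℤ)⟧))
    have h2 : (DRing.homCxQ K).map (f • 𝟙 (J⟦(1 : ℤ)⟧)) = f • 𝟙 Y := by
      rw [Functor.comp_map, map_smul_id, Functor.map_smul, CategoryTheory.Functor.map_id]
    rwa [h2] at h1
  have h0 : ∀ a : Y ⟶ E, a = 0 := fun a => (subsingleton_hom_of_isIso_smul hE).elim a 0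
  have h1 : ∀ a : Y⟦(-1 : ℤ)⟧ ⟶ E, a = 0 := fun a =>
    ((subsingleton_shift_neg_iff Y E 1).2 (subsingleton_hom_of_isIso_smul (hE.shift 1))).elim a 0
  refine ⟨fun a b hab => sub_eq_zero.1 ?_, fun b => ?_⟩
  · obtain ⟨γ, hγ⟩ := T.yoneda_exact₂ hd (a - b) (by
      exact (Preadditive.comp_sub _ _ _).trans (sub_eq_zero.2 hab))
    exact hγ.trans ((congrArg (T.mor₂ ≫ ·) (h0 γ)).trans comp_zero)
  · obtain ⟨a, ha⟩ := T.invRotate.yoneda_exact₂ (inv_rot_of_distTriang _ hd) b (h1 _)
    exact ⟨a, ha.symm⟩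

theorem exists_completion_map (l : List A) (X : Dual.D A) : ∃ (C : Dual.D A) (η : X ⟶ C),
    (∀ f ∈ l, IsC f C) ∧
    (∀ L, (∀ f ∈ l, IsC f L) → Function.Bijective (fun α : C ⟶ L => η ≫ α)) ∧
    ∀ E, (∀ f ∈ l, IsC f E) →
      Function.Bijective (fun α : (DRing.RHomCx K).obj C ⟶ E => (DRing.RHomCx K).map η ≫ α) := by
  induction l with
  | nil => exact ⟨X, 𝟙 X, fun f hf => absurd hf List.not_mem_nil, fun L _ => by
      simp only [Category.id_comp]; exact Function.bijective_id, fun L _ => by
      simp only [CategoryTheory.Functor.map_id, Category.id_comp]; exact Function.bijective_id⟩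
  | cons f l ih =>
    obtain ⟨C, η, hC, hL, hR⟩ := ih
    obtain ⟨C', η', h1, h2, h3, R, adj, δ, hT⟩ := exists_step f C
    haveI := isIso_smul_restrict f (R.obj C)
    refine ⟨C', η ≫ η', fun g hg => ?_, fun L h => ?_, fun E h => ?_⟩
    · rcases List.mem_cons.1 hg with rfl | hg
      · exact h1
      · exact h2 g (hC g hg)
    · have := (hL L fun g hg => h g (List.mem_cons_of_mem _ hg)).comp
        (h3 L (h f List.mem_cons_self))
      simpa [Function.comp_def] using this
    · have := (hR E fun g hg => h g (List.mem_cons_of_mem _ hg)).comp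
        (bijective_step K _ η' δ hT (h f List.mem_cons_self))
      simpa [Function.comp_def] using this

/-- `RHom(K, L^)` is the completion of `RHom(K, L)`. -/
theorem derivedCompletion_RHomCx (I : Ideal A) (hI : I.FG) [DRing.HasDerivedCompletion I] (L : Dual.D A) :
    DRing.IsDerivedComplete I ((DRing.RHomCx K).obj ((DRing.derivedCompletion I).obj L).obj) ∧
      ∀ E : Dual.D A, DRing.IsDerivedComplete I E →
        Function.Bijective (fun φ : (DRing.RHomCx K).obj ((DRing.derivedCompletion I).obj L).obj ⟶ E =>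
          (DRing.RHomCx K).map (DRing.toDerivedCompletion I L) ≫ φ) := by
  let Lh := (DRing.derivedCompletion I).obj L
  refine ⟨fun f hf => isC_obj K (f := f) (Lh.property f hf), fun E hE => ?_⟩
  obtain ⟨s, hs⟩ := hI
  have hl : ∀ {X : Dual.D A}, DRing.IsDerivedComplete I X → ∀ f ∈ s.toList, IsC f X := fun hX f hf =>
    hX f (hs ▸ Ideal.subset_span (Finset.mem_toList.1 hf))
  obtain ⟨C, η, hC, hU, hR⟩ := exists_completion_map K s.toList L
  have hCI : DRing.IsDerivedComplete I C := hs ▸ isC_of_span C fun f hf => hC f (Finset.mem_toList.2 hf)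
  obtain ⟨σ, hσ⟩ := (hU Lh.obj (hl Lh.property)).2 (DRing.toDerivedCompletion I L)
  have hadj : ∀ X : DRing.DComp I, Function.Bijective
      (fun α : Lh.obj ⟶ X.obj => DRing.toDerivedCompletion I L ≫ α) := fun X => by
    have h := ((DRing.derivedCompletionAdj I).homEquiv L X).bijective.comp
      ((ObjectProperty.fullyFaithfulι (DRing.IsDerivedComplete I)).homEquiv (X := Lh) (Y := X)).symm.bijective
    convert h using 1
    funext α
    exact (((DRing.derivedCompletionAdj I).homEquiv_unit L X ((ObjectProperty.fullyFaithfulι (DRing.IsDerivedComplete I)).homEquiv.symm α)).trans (congrArg (_ ≫ ·) ((ObjectProperty.fullyFaithfulι (DRing.IsDerivedComplete I)).map_preimage α))).symm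
  obtain ⟨τ, hτ⟩ := (hadj ⟨C, hCI⟩).2 η
  simp only at hσ hτ
  let e : C ≅ Lh.obj := ⟨σ, τ, (hU C hC).1 (by simp only; rw [reassoc_of% hσ, hτ, Category.comp_id]),
    (hadj Lh).1 (by simp only; rw [reassoc_of% hτ, hσ, Category.comp_id])⟩
  refine bijective_arrow_iso ((DRing.RHomCx K).map η) _ (Iso.refl _) ((DRing.RHomCx K).mapIso e) ?_
    (hR E (hl hE))
  rw [Iso.refl_hom, Category.id_comp, Functor.mapIso_hom, ← Functor.map_comp]
  exact congrArg (DRing.RHomCx K).map hσ.symm

end Groth.Agent.RHomCx
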