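import Groth.Agent.RHomCx.Loc

/-!
# The extended Čech complex at a unit is contractible
-/

set_option autoImplicit false
set_option linter.style.haveILetI false

open CategoryTheory CategoryTheory.Limits CategoryTheory.Pretriangulated

universe u

namespace Groth.Agent.RHomCx

variable {A : Type u} [CommRing A]

theorem isZero_quotient_iff (K : DRing.Cx A) :
    IsZero ((HomotopyCategory.quotient (ModuleCat.{u} A) (ComplexShape.up ℤ)).obj K) ↔
      Nonempty (Homotopy (𝟙 K) 0) := by
  rw [IsZero.iff_id_eq_zero, ← CategoryTheory.Functor.map_id, HomotopyCategory.quotient_map_eq_zero_iff]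

theorem contractible_cocone {K L : DRing.Cx A} (φ : K ⟶ L)
    [IsIso ((HomotopyCategory.quotient (ModuleCat.{u} A) (ComplexShape.up ℤ)).map φ)] :
    Nonempty (Homotopy (𝟙 (CochainComplex.mappingCocone φ)) 0) := by
  refine (isZero_quotient_iff _).1 ?_
  have h3 : IsZero ((HomotopyCategory.quotient (ModuleCat.{u} A) (ComplexShape.up ℤ)).obj
      (CochainComplex.mappingCone φ)) :=
    (Triangle.isZero₃_iff_isIso₁ _ (HomotopyCategory.mappingCone_triangleh_distinguished φ)).2 ‹_›
  exact IsZero.of_iso (Functor.map_isZero (shiftFunctor (HomotopyCategory (ModuleCat.{u} A) (ComplexShape.up ℤ)) (-1 : ℤ)) h3)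
    (((HomotopyCategory.quotient (ModuleCat.{u} A) (ComplexShape.up ℤ)).commShiftIso (-1 : ℤ)).app
      (CochainComplex.mappingCone φ))

theorem isIso_locUnit_of_isUnit {f : A} (hf : IsUnit f) (M : ModuleCat.{u} A) :
    IsIso ((DerCA.locUnit (Submonoid.powers f)).app M) := by
  refine (ConcreteCategory.isIso_iff_bijective _).2 ?_
  haveI : IsLocalizedModule (Submonoid.powers f) (LinearMap.id : M →ₗ[A] M) :=
    { map_units := fun s => (IsUnit.map (algebraMap A (Module.End A M)) (by
        obtain ⟨_, k, rfl⟩ := s; exact hf.pow k))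
      surj := fun y => ⟨(y, 1), by simp⟩
      exists_of_eq := fun h => ⟨1, by simpa using h⟩ }
  have h := IsLocalizedModule.linearEquiv (Submonoid.powers f) (LinearMap.id : M →ₗ[A] M)
    (LocalizedModule.mkLinearMap (Submonoid.powers f) M)
  have he : ∀ x, (IsLocalizedModule.linearEquiv (Submonoid.powers f) (LinearMap.id : M →ₗ[A] M)
      (LocalizedModule.mkLinearMap (Submonoid.powers f) M)) x = LocalizedModule.mkLinearMap (Submonoid.powers f) M x :=
    fun x => IsLocalizedModule.linearEquiv_apply _ _ _ x
  exact (funext he) ▸ (IsLocalizedModule.linearEquiv (Submonoid.powers f) (LinearMap.id : M →ₗ[A] M)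
    (LocalizedModule.mkLinearMap (Submonoid.powers f) M)).bijective

theorem contractible_extCech (M : ModuleCat.{u} A) : ∀ (l : List A), (∃ f ∈ l, IsUnit f) →
    Nonempty (Homotopy (𝟙 (DerCA.extCech M l)) 0) := by
  intro l
  induction l with
  | nil => rintro ⟨f, hf, -⟩; exact absurd hf List.not_mem_nil
  | cons g l ih =>
    rintro ⟨f, hf, hu⟩
    show Nonempty (Homotopy (𝟙 (CochainComplex.mappingCocone
      (DerCA.locCxUnit (Submonoid.powers g) (DerCA.extCech M l)))) 0)
    rcases List.mem_cons.1 hf with rfl | hf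
    · haveI : ∀ i, IsIso ((DerCA.locCxUnit (Submonoid.powers f) (DerCA.extCech M l)).f i) := fun i =>
        isIso_locUnit_of_isUnit hu ((DerCA.extCech M l).X i)
      haveI : IsIso (DerCA.locCxUnit (Submonoid.powers f) (DerCA.extCech M l)) :=
        HomologicalComplex.Hom.isIso_of_components _
      exact contractible_cocone _
    · obtain ⟨h⟩ := ih ⟨f, hf, hu⟩
      have h1 := (isZero_quotient_iff _).2 ⟨h⟩
      have h2 := (isZero_quotient_iff ((DerCA.locCx (Submonoid.powers g)).obj (DerCA.extCech M l))).2
        ⟨((Homotopy.ofEq ((DerCA.locCx (Submonoid.powers g)).map_id _).symm).trans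
          ((DerCA.locFunctor (Submonoid.powers g)).mapHomotopy h)).trans
            (Homotopy.ofEq (Functor.map_zero _ _ _))⟩
      haveI := isIso_of_isZero_both (f := (HomotopyCategory.quotient (ModuleCat.{u} A) (ComplexShape.up ℤ)).map
        (DerCA.locCxUnit (Submonoid.powers g) (DerCA.extCech M l))) h1 h2
      exact contractible_cocone _

end Groth.Agent.RHomCx
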